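import Cfsg.Agent.H126.PwO.Nu_m3
import Cfsg.Agent.H434.CornMain
import Cfsg.Agent.LieClassical.OrthForms
import Cfsg.Agent.H98.Ore.CritB_mg
import Cfsg.Agent.H98.Ore.Main
import Cfsg.Agent.H950.UHerm
import Cfsg.Agent.S0278
import Cfsg.Agent.H134.Sq.Base_m3
import Cfsg.Agent.ClassicalGeometry.PSUAutBasic
import Cfsg.Agent.FastGrp
import Cfsg.Agent.Prune
set_option linter.all false

section
prune_inst 0x7fffadf8fbbfdddfdf7f7e75a6dcedfc3a931fffa4dffd4bbfe02bff0bff339a09c5678d09e0a0fe0ec3c01410a87843f9ffdeffe26bfc7ffffdfdf45ffbee4ff5f7bd08519688340fbc2ff703f0778e7f3ffffffffcffffffffffffffffffbeffbfffffffff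

-- part: H962/PP/Conj
section
prune_inst 0x300000000000000000000000000000000
set_option linter.all false
open scoped Cfsg.Agent.FastGrp

/-!
# Cyclic matrices: conjugacy, and the conjugacy form of the product theorem

`Cyc x` : `x` has a cyclic vector.  `blk c B = diag (c, B)`.

* `conj_of_cyc` : two cyclic matrices with the same characteristic polynomial are conjugate.
* `cyc_of_row` : first row `(c, 0, …, 0)`, lower right corner `B` cyclic, `χ_B(c) ≠ 0`: cyclic.
* `exists_mul_conj` : `A = P X₀ P⁻¹ * Q diag(c, B₀) Q⁻¹`, `det Q = 1`.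
* `exists_mul_conj_blk` : `A = P diag(d, C₀) P⁻¹ * Q diag(c, B₀) Q⁻¹`, `det P = det Q = 1`.
-/

set_option autoImplicit false

namespace Cfsg.Agent.H962.PP

open Module Matrix Polynomial

variable {F : Type*} [Field F]

/-- `x` has a cyclic vector -/
def Cyc {n : ℕ} (x : Matrix (Fin n) (Fin n) F) : Prop :=
  ∃ m : Fin n → F, LinearIndependent F (fun i : Fin n => (x ^ (i : ℕ)) *ᵥ m)

theorem aeval_mulVec_eq {n N : ℕ} (x : Matrix (Fin n) (Fin n) F) (m : Fin n → F) {g : F[X]}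
    (hg : g.natDegree < N) : (aeval x g) *ᵥ m = ∑ i : Fin N, g.coeff i • ((x ^ (i : ℕ)) *ᵥ m) := by
  rw [aeval_eq_sum_range' hg, Matrix.sum_mulVec,
    Fin.sum_univ_eq_sum_range (fun i => g.coeff i • ((x ^ i) *ᵥ m)) N]
  exact Finset.sum_congr rfl fun i _ => Matrix.smul_mulVec _ _ _

/-- a polynomial killing a cyclic vector is a multiple of the characteristic polynomial -/
theorem dvd_of_kill {n : ℕ} {x : Matrix (Fin n) (Fin n) F} {m : Fin n → F}
    (hm : LinearIndependent F (fun i : Fin n => (x ^ (i : ℕ)) *ᵥ m)) {g : F[X]}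
    (hg : (aeval x g) *ᵥ m = 0) : x.charpoly ∣ g := by
  rw [← Polynomial.modByMonic_eq_zero_iff_dvd x.charpoly_monic]
  have h1 : aeval x (g %ₘ x.charpoly) = aeval x g :=
    Polynomial.aeval_modByMonic_eq_self_of_root (Matrix.aeval_self_charpoly x)
  rcases Nat.eq_zero_or_pos n with rfl | hn
  · have h2 : x.charpoly = 1 := by
      rw [← x.charpoly_monic.natDegree_eq_zero, Matrix.charpoly_natDegree_eq_dim,
        Fintype.card_fin]
    rw [h2, Polynomial.modByMonic_one]
  have hne : x.charpoly ≠ 1 := by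
    intro h
    have h3 := x.charpoly_natDegree_eq_dim
    rw [h, natDegree_one, Fintype.card_fin] at h3
    omega
  have hlt : (g %ₘ x.charpoly).natDegree < n := by
    have h3 := Polynomial.natDegree_modByMonic_lt g x.charpoly_monic hne
    rwa [x.charpoly_natDegree_eq_dim, Fintype.card_fin] at h3
  rw [← h1, aeval_mulVec_eq x m hlt] at hg
  have h4 := Fintype.linearIndependent_iff.mp hm _ hg
  ext i
  rw [coeff_zero]
  rcases Nat.lt_or_ge i n with h | h
  · exact h4 ⟨i, h⟩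
  · exact coeff_eq_zero_of_natDegree_lt (by omega)

/-- linear independence from polynomials -/
theorem li_of_poly {n N : ℕ} {x : Matrix (Fin n) (Fin n) F} {m : Fin n → F}
    (h : ∀ g : F[X], g.degree < N → (aeval x g) *ᵥ m = 0 → g = 0) :
    LinearIndependent F (fun i : Fin N => (x ^ (i : ℕ)) *ᵥ m) := by
  rw [Fintype.linearIndependent_iff]
  intro a ha i
  have hdeg : (∑ i : Fin N, C (a i) * X ^ (i : ℕ)).degree < (N : WithBot ℕ) :=
    degree_sum_fin_lt a
  have h0 : (aeval x (∑ i : Fin N, C (a i) * X ^ (i : ℕ))) *ᵥ m = 0 := by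
    rw [map_sum, Matrix.sum_mulVec, ← ha]
    refine Finset.sum_congr rfl fun j _ => ?_
    rw [map_mul, aeval_C, map_pow, aeval_X, ← Algebra.smul_def, Matrix.smul_mulVec]
  have h1 := h _ hdeg h0
  have h2 := congrArg (fun p : F[X] => p.coeff i) h1
  simp only [finsetSum_coeff, coeff_C_mul, coeff_X_pow, coeff_zero] at h2
  rw [Finset.sum_eq_single i] at h2
  · simpa using h2
  · intro j _ hj
    rw [if_neg (fun h => hj (Fin.ext h.symm)), mul_zero]
  · intro h; exact absurd (Finset.mem_univ _) h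

/-- **two cyclic matrices with the same characteristic polynomial are conjugate** -/
theorem conj_of_cyc {n : ℕ} {x x' : Matrix (Fin n) (Fin n) F} (hx : Cyc x) (hx' : Cyc x')
    (h : x.charpoly = x'.charpoly) :
    ∃ P : Matrix (Fin n) (Fin n) F, IsUnit P.det ∧ x' = P * x * P⁻¹ := by
  obtain ⟨m, hm⟩ := hx
  obtain ⟨m', hm'⟩ := hx'
  rcases Nat.eq_zero_or_pos n with rfl | hn
  · exact ⟨1, by simp, Subsingleton.elim _ _⟩
  have hnt : Nonempty (Fin n) := ⟨⟨0, hn⟩⟩
  let b : Basis (Fin n) F (Fin n → F) := basisOfLinearIndependentOfCardEqFinrank hm (by simp)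
  let b' : Basis (Fin n) F (Fin n → F) := basisOfLinearIndependentOfCardEqFinrank hm' (by simp)
  have hb : ∀ i : Fin n, b i = (x ^ (i : ℕ)) *ᵥ m := fun i => by simp [b]
  have hb' : ∀ i : Fin n, b' i = (x' ^ (i : ℕ)) *ᵥ m' := fun i => by simp [b']
  let e : (Fin n → F) ≃ₗ[F] (Fin n → F) := b.equiv b' (Equiv.refl _)
  have he : ∀ i, e (b i) = b' i := fun i => by simp [e]
  have hne : x.charpoly ≠ 1 := by
    intro h1
    have h3 := x.charpoly_natDegree_eq_dim
    rw [h1, natDegree_one, Fintype.card_fin] at h3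
    omega
  have key : ∀ g : F[X], e ((aeval x g) *ᵥ m) = (aeval x' g) *ᵥ m' := by
    intro g
    have h1 : aeval x (g %ₘ x.charpoly) = aeval x g :=
      Polynomial.aeval_modByMonic_eq_self_of_root (Matrix.aeval_self_charpoly x)
    have h2 : aeval x' (g %ₘ x.charpoly) = aeval x' g :=
      Polynomial.aeval_modByMonic_eq_self_of_root (by rw [h]; exact Matrix.aeval_self_charpoly x')
    have hlt : (g %ₘ x.charpoly).natDegree < n := by
      have h3 := Polynomial.natDegree_modByMonic_lt g x.charpoly_monic hne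
      rwa [x.charpoly_natDegree_eq_dim, Fintype.card_fin] at h3
    rw [← h1, ← h2, aeval_mulVec_eq x m hlt, aeval_mulVec_eq x' m' hlt, map_sum]
    refine Finset.sum_congr rfl fun i _ => ?_
    rw [map_smul, ← hb, ← hb', he]
  let P : Matrix (Fin n) (Fin n) F := LinearMap.toMatrix' e.toLinearMap
  have hP : ∀ v, P *ᵥ v = e v := fun v => by
    rw [← Matrix.toLin'_apply, Matrix.toLin'_toMatrix']; rfl
  have hPu : IsUnit P.det := by
    have h1 : P * LinearMap.toMatrix' e.symm.toLinearMap = 1 := by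
      rw [← LinearMap.toMatrix'_comp]; simp
    exact IsUnit.of_mul_eq_one _ (by rw [← det_mul, h1, det_one])
  refine ⟨P, hPu, ?_⟩
  have hcomm : P * x = x' * P := by
    apply Matrix.toLin'.injective
    apply b.ext
    intro i
    rw [Matrix.toLin'_mul, Matrix.toLin'_mul]
    simp only [LinearMap.comp_apply, Matrix.toLin'_apply]
    rw [hP, hP, he, hb, hb', Matrix.mulVec_mulVec, Matrix.mulVec_mulVec, ← pow_succ', ← pow_succ']
    have h1 := key (X ^ ((i : ℕ) + 1))
    rwa [map_pow, map_pow, aeval_X, aeval_X] at h1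
  rw [hcomm, mul_assoc, Matrix.mul_nonsing_inv _ hPu, mul_one]

/-- `diag (c, B)` -/
def blk {n : ℕ} (c : F) (B : Matrix (Fin n) (Fin n) F) : Matrix (Fin (n + 1)) (Fin (n + 1)) F :=
  Matrix.of fun i j => Fin.cases (Fin.cases c (fun _ => 0) j)
    (fun i' => Fin.cases 0 (fun j' => B i' j') j) i

section blk
variable {n : ℕ} (c d : F) (B D : Matrix (Fin n) (Fin n) F)

@[simp] theorem blk_zero_zero : blk c B 0 0 = c := rfl
@[simp] theorem blk_zero_succ (j : Fin n) : blk c B 0 j.succ = 0 := rfl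
@[simp] theorem blk_succ_zero (i : Fin n) : blk c B i.succ 0 = 0 := rfl
@[simp] theorem blk_succ_succ (i j : Fin n) : blk c B i.succ j.succ = B i j := rfl

theorem blk_mul : blk c B * blk d D = blk (c * d) (B * D) := by
  ext i j
  rw [Matrix.mul_apply, Fin.sum_univ_succ]
  refine Fin.cases ?_ (fun i' => ?_) i <;> refine Fin.cases ?_ (fun j' => ?_) j
  · simp
  · simp
  · simp
  · simp [Matrix.mul_apply]

theorem blk_one : blk (1 : F) (1 : Matrix (Fin n) (Fin n) F) = 1 := by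
  ext i j
  refine Fin.cases ?_ (fun i' => ?_) i <;> refine Fin.cases ?_ (fun j' => ?_) j
  · simp
  · simp [(Fin.succ_ne_zero _).symm]
  · simp [Fin.succ_ne_zero]
  · simp [Matrix.one_apply]

theorem blk_pow (k : ℕ) : (blk c B) ^ k = blk (c ^ k) (B ^ k) := by
  induction k with
  | zero => rw [pow_zero, pow_zero, pow_zero, blk_one]
  | succ k ih => rw [pow_succ, ih, blk_mul, pow_succ, pow_succ]

theorem blk_det : (blk c B).det = c * B.det := by
  rw [Matrix.det_succ_row_zero, Fin.sum_univ_succ, Finset.sum_eq_zero, add_zero]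
  · have h1 : (blk c B).submatrix Fin.succ (Fin.succAbove 0) = B := by
      ext i j; rw [Fin.succAbove_zero, submatrix_apply, blk_succ_succ]
    rw [h1]; simp
  · intro j _; simp

theorem blk_charpoly : (blk c B).charpoly = (X - C c) * B.charpoly := by
  rw [charpoly_of_row _ (blk_zero_succ c B)]
  rfl

end blk

/-- first row `(c, 0, …, 0)`: cyclic -/
theorem cyc_of_row {n : ℕ} {y : Matrix (Fin (n + 1)) (Fin (n + 1)) F}
    (h0 : ∀ j : Fin n, y 0 j.succ = 0) (hB : Cyc (y.submatrix Fin.succ Fin.succ))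
    (hc : (y.submatrix Fin.succ Fin.succ).charpoly.eval (y 0 0) ≠ 0) : Cyc y := by
  obtain ⟨B, hBd⟩ : ∃ B, B = y.submatrix Fin.succ Fin.succ := ⟨_, rfl⟩
  obtain ⟨c, hcd⟩ : ∃ c, c = y 0 0 := ⟨_, rfl⟩
  rw [← hBd] at hB hc
  rw [← hcd] at hc
  obtain ⟨w, hw⟩ := hB
  have hyB : ∀ v : Fin n → F, y *ᵥ consL v = consL (B *ᵥ v) := by
    intro v
    ext i; refine Fin.cases ?_ (fun j => ?_) i
    · rw [mulVec_consL_zero, consL_zero]
      exact Finset.sum_eq_zero fun j _ => by rw [h0, zero_mul]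
    · rw [mulVec_consL_succ, consL_succ, hBd]
  -- the eigenvector
  obtain ⟨u, hu0, hu⟩ : ∃ u : Fin (n + 1) → F, u 0 = 1 ∧ y *ᵥ u = c • u := by
    have hdet : (scalar (Fin n) c - B).det ≠ 0 := by
      rwa [Matrix.eval_charpoly] at hc
    let v : Fin n → F := fun i => y i.succ 0
    let u' : Fin n → F := (scalar (Fin n) c - B)⁻¹ *ᵥ v
    have hu' : (scalar (Fin n) c - B) *ᵥ u' = v := by
      rw [Matrix.mulVec_mulVec, Matrix.mul_nonsing_inv _ hdet.isUnit, Matrix.one_mulVec]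
    refine ⟨Fin.cons 1 u', rfl, ?_⟩
    ext i
    refine Fin.cases ?_ (fun j => ?_) i
    · simp [mulVec, dotProduct, Fin.sum_univ_succ, h0, hcd]
    · have h1 := congrFun hu' j
      have h2 : (y *ᵥ (Fin.cons 1 u' : Fin (n + 1) → F)) j.succ = v j + (B *ᵥ u') j := by
        simp [mulVec, dotProduct, Fin.sum_univ_succ, v, hBd]
      rw [h2, ← h1, Matrix.sub_mulVec]
      simp [Matrix.scalar_apply]
  have hpu : ∀ g : F[X], (aeval y g) *ᵥ u = g.eval c • u := by
    intro g
    induction g using Polynomial.induction_on' with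
    | add p q hp hq => rw [map_add, Matrix.add_mulVec, hp, hq, eval_add, add_smul]
    | monomial k a =>
      rw [aeval_monomial, ← Algebra.smul_def, Matrix.smul_mulVec, eval_monomial, mul_smul]
      congr 1
      induction k with
      | zero => simp
      | succ k ih => rw [pow_succ', ← Matrix.mulVec_mulVec, ih, Matrix.mulVec_smul, hu, smul_smul,
          pow_succ]
  have hpc : ∀ (g : F[X]) (v : Fin n → F), (aeval y g) *ᵥ consL v = consL ((aeval B g) *ᵥ v) := by
    intro g v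
    induction g using Polynomial.induction_on' with
    | add p q hp hq => rw [map_add, Matrix.add_mulVec, hp, hq, map_add, Matrix.add_mulVec, map_add]
    | monomial k a =>
      rw [aeval_monomial, aeval_monomial, ← Algebra.smul_def, ← Algebra.smul_def,
        Matrix.smul_mulVec, Matrix.smul_mulVec, map_smul]
      congr 1
      induction k with
      | zero => simp
      | succ k ih => rw [pow_succ', ← Matrix.mulVec_mulVec, ih, hyB, Matrix.mulVec_mulVec,
          ← pow_succ']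
  refine ⟨consL w + u, li_of_poly ?_⟩
  intro g hg hgm
  rw [Matrix.mulVec_add, hpu, hpc] at hgm
  have hgc : g.eval c = 0 := by
    have h1 := congrFun hgm 0
    rw [Pi.add_apply, consL_zero, Pi.smul_apply, hu0] at h1
    simpa using h1
  have hgB : (aeval B g) *ᵥ w = 0 := by
    rw [hgc, zero_smul, add_zero] at hgm
    ext i
    have h1 := congrFun hgm i.succ
    rwa [consL_succ] at h1
  have hd1 : B.charpoly ∣ g := dvd_of_kill hw hgB
  have hd2 : (X - C c) ∣ g := dvd_iff_isRoot.mpr hgc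
  have hcop : IsCoprime (X - C c) B.charpoly := by
    have hirr : Irreducible (X - C c) := irreducible_X_sub_C c
    rw [hirr.coprime_iff_not_dvd, dvd_iff_isRoot]
    exact hc
  have hd := hcop.mul_dvd hd2 hd1
  by_contra hne
  have h3 := Polynomial.natDegree_le_of_dvd hd hne
  rw [(monic_X_sub_C c).natDegree_mul B.charpoly_monic, natDegree_X_sub_C,
    B.charpoly_natDegree_eq_dim, Fintype.card_fin] at h3
  have h4 : g.natDegree < n + 1 := by
    rw [degree_eq_natDegree hne] at hg; exact_mod_cast hg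
  omega

theorem cyc_blk {n : ℕ} {c : F} {B : Matrix (Fin n) (Fin n) F} (hB : Cyc B)
    (hc : B.charpoly.eval c ≠ 0) : Cyc (blk c B) :=
  cyc_of_row (blk_zero_succ c B) (by simpa using! hB) (by simpa using! hc)

/-- **Conjugacy form of the product theorem.** -/
theorem exists_mul_conj {k : ℕ} (A : Matrix (Fin (k + 2)) (Fin (k + 2)) F)
    (hA : ∀ a : F, A ≠ scalar (Fin (k + 2)) a) (X₀ : Matrix (Fin (k + 2)) (Fin (k + 2)) F)
    (hX : Cyc X₀) (hXd : X₀.det ≠ 0) (B₀ : Matrix (Fin (k + 1)) (Fin (k + 1)) F) (hB : Cyc B₀)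
    (hBd : B₀.det ≠ 0) (c : F) (hc0 : c ≠ 0) (hc : B₀.charpoly.eval c ≠ 0)
    (hdet : A.det = X₀.det * (c * B₀.det)) :
    ∃ P Q : Matrix (Fin (k + 2)) (Fin (k + 2)) F, IsUnit P.det ∧ Q.det = 1 ∧
      A = (P * X₀ * P⁻¹) * (Q * blk c B₀ * Q⁻¹) := by
  have hAd : A.det ≠ 0 := by rw [hdet]; exact mul_ne_zero hXd (mul_ne_zero hc0 hBd)
  obtain ⟨R, L, hR, hRL, hL, hL01⟩ := exists_hess A hA
  have hRR : R⁻¹ * R = 1 := Matrix.nonsing_inv_mul _ hR
  have hRR' : R * R⁻¹ = 1 := Matrix.mul_nonsing_inv _ hR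
  have hLdet : L.det = A.det := by
    have h1 : R.det * A.det = L.det * R.det := by rw [← det_mul, ← det_mul, hRL]
    rw [mul_comm L.det] at h1
    exact (mul_left_cancel₀ hR.ne_zero h1).symm
  obtain ⟨x, y, hxy, hxp, hxm, hy0, hyc, hyf, hym⟩ :=
    hess hL (by rw [hLdet]; exact hAd) hL01 X₀.charpoly_monic
      (by rw [X₀.charpoly_natDegree_eq_dim, Fintype.card_fin]) (det_ne_zero_iff.mp hXd)
      B₀.charpoly_monic (by rw [B₀.charpoly_natDegree_eq_dim, Fintype.card_fin])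
      (det_ne_zero_iff.mp hBd)
  have hdx : x.det = X₀.det := by
    rw [Matrix.det_eq_sign_charpoly_coeff, Matrix.det_eq_sign_charpoly_coeff, hxp]
  have hdy : (y.submatrix Fin.succ Fin.succ).det = B₀.det := by
    rw [Matrix.det_eq_sign_charpoly_coeff, Matrix.det_eq_sign_charpoly_coeff, hyf]
  have hdy' : y.det = y 0 0 * B₀.det := by
    have h1 : y.det = (blk (y 0 0) (y.submatrix Fin.succ Fin.succ)).det := by
      rw [Matrix.det_eq_sign_charpoly_coeff, Matrix.det_eq_sign_charpoly_coeff,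
        charpoly_of_row y hy0, blk_charpoly]
    rw [h1, blk_det, hdy]
  have hcy : y 0 0 = c := by
    have h1 : x.det * y.det = A.det := by rw [← det_mul, hxy, hLdet]
    rw [hdx, hdy', hdet] at h1
    have h2 := mul_left_cancel₀ hXd h1
    exact mul_right_cancel₀ hBd h2
  have hyCyc : Cyc y := cyc_of_row hy0 hym (by rw [hyf, hcy]; exact hc)
  obtain ⟨P, hP, hPx⟩ := conj_of_cyc hX hxm hxp.symm
  obtain ⟨Q, hQ, hQy⟩ := conj_of_cyc (cyc_blk hB hc) hyCyc (by
    rw [charpoly_of_row y hy0, blk_charpoly, hyf, hcy])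
  -- correct the determinant of `R⁻¹ Q`
  have hsplit : A = (R⁻¹ * x * R) * (R⁻¹ * y * R) := by
    have h1 : R⁻¹ * x * R * (R⁻¹ * y * R) = R⁻¹ * x * (R * R⁻¹) * y * R := by
      simp only [mul_assoc]
    rw [h1, hRR', mul_one, mul_assoc (R⁻¹), hxy, mul_assoc, ← hRL, ← mul_assoc, hRR, one_mul]
  have hPP : P * P⁻¹ = 1 := Matrix.mul_nonsing_inv _ hP
  have hRinv : IsUnit (R⁻¹).det := by
    rw [Matrix.det_nonsing_inv]; exact hR.ringInverse
  obtain ⟨t, ht⟩ : ∃ t, t = ((R⁻¹ * Q).det)⁻¹ := ⟨_, rfl⟩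
  have hQ1 : (R⁻¹ * Q).det ≠ 0 := by rw [det_mul]; exact (hRinv.mul hQ).ne_zero
  have ht0 : t ≠ 0 := by rw [ht]; exact inv_ne_zero hQ1
  refine ⟨R⁻¹ * P, R⁻¹ * Q * blk t 1, by rw [det_mul]; exact hRinv.mul hP, ?_, ?_⟩
  · rw [det_mul, blk_det, det_one, mul_one, ht, mul_inv_cancel₀ hQ1]
  · have hb1 : blk t (1 : Matrix (Fin (k + 1)) (Fin (k + 1)) F) * blk t⁻¹ 1 = 1 := by
      rw [blk_mul, mul_inv_cancel₀ ht0, mul_one, blk_one]
    have hinv : (blk t (1 : Matrix (Fin (k + 1)) (Fin (k + 1)) F))⁻¹ = blk t⁻¹ 1 :=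
      Matrix.inv_eq_right_inv hb1
    have hcomm : blk t (1 : Matrix (Fin (k + 1)) (Fin (k + 1)) F) * blk c B₀ * blk t⁻¹ 1
        = blk c B₀ := by
      rw [blk_mul, blk_mul, one_mul, mul_one, mul_comm t c, mul_assoc, mul_inv_cancel₀ ht0, mul_one]
    have hRi : R⁻¹⁻¹ = R := Matrix.nonsing_inv_nonsing_inv _ hR
    have e1 : R⁻¹ * P * X₀ * (R⁻¹ * P)⁻¹ = R⁻¹ * x * R := by
      rw [Matrix.mul_inv_rev, hRi, hPx]; simp only [mul_assoc]
    have e2 : R⁻¹ * Q * blk t 1 * blk c B₀ * (R⁻¹ * Q * blk t 1)⁻¹ = R⁻¹ * y * R := by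
      rw [Matrix.mul_inv_rev, Matrix.mul_inv_rev, hRi, hinv, hQy]
      calc R⁻¹ * Q * blk t 1 * blk c B₀ * (blk t⁻¹ 1 * (Q⁻¹ * R))
          = R⁻¹ * Q * (blk t 1 * blk c B₀ * blk t⁻¹ 1) * (Q⁻¹ * R) := by simp only [mul_assoc]
        _ = _ := by rw [hcomm]; simp only [mul_assoc]
    rw [e1, e2]
    exact hsplit

/-- both factors block diagonal: the conjugating matrices have determinant one -/
theorem exists_mul_conj_blk {k : ℕ} (A : Matrix (Fin (k + 2)) (Fin (k + 2)) F)
    (hA : ∀ a : F, A ≠ scalar (Fin (k + 2)) a) (d : F) (C₀ : Matrix (Fin (k + 1)) (Fin (k + 1)) F)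
    (hC : Cyc C₀) (hCd : C₀.det ≠ 0) (hd0 : d ≠ 0) (hd : C₀.charpoly.eval d ≠ 0)
    (c : F) (B₀ : Matrix (Fin (k + 1)) (Fin (k + 1)) F) (hB : Cyc B₀)
    (hBd : B₀.det ≠ 0) (hc0 : c ≠ 0) (hc : B₀.charpoly.eval c ≠ 0)
    (hdet : A.det = (d * C₀.det) * (c * B₀.det)) :
    ∃ P Q : Matrix (Fin (k + 2)) (Fin (k + 2)) F, P.det = 1 ∧ Q.det = 1 ∧
      A = (P * blk d C₀ * P⁻¹) * (Q * blk c B₀ * Q⁻¹) := by
  obtain ⟨P, Q, hP, hQ, h⟩ := exists_mul_conj A hA (blk d C₀) (cyc_blk hC hd)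
    (by rw [blk_det]; exact mul_ne_zero hd0 hCd) B₀ hB hBd c hc0 hc (by rw [blk_det]; exact hdet)
  have hP0 : P.det ≠ 0 := hP.ne_zero
  obtain ⟨t, ht⟩ : ∃ t, t = (P.det)⁻¹ := ⟨_, rfl⟩
  have ht0 : t ≠ 0 := by rw [ht]; exact inv_ne_zero hP0
  have hb1 : blk t (1 : Matrix (Fin (k + 1)) (Fin (k + 1)) F) * blk t⁻¹ 1 = 1 := by
    rw [blk_mul, mul_inv_cancel₀ ht0, mul_one, blk_one]
  have hinv : (blk t (1 : Matrix (Fin (k + 1)) (Fin (k + 1)) F))⁻¹ = blk t⁻¹ 1 :=
    Matrix.inv_eq_right_inv hb1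
  have hcomm : blk t (1 : Matrix (Fin (k + 1)) (Fin (k + 1)) F) * blk d C₀ * blk t⁻¹ 1
      = blk d C₀ := by
    rw [blk_mul, blk_mul, one_mul, mul_one, mul_comm t d, mul_assoc, mul_inv_cancel₀ ht0, mul_one]
  refine ⟨P * blk t 1, Q, ?_, hQ, ?_⟩
  · rw [det_mul, blk_det, det_one, mul_one, ht, mul_inv_cancel₀ hP0]
  · have e1 : P * blk t 1 * blk d C₀ * (P * blk t 1)⁻¹ = P * blk d C₀ * P⁻¹ := by
      rw [Matrix.mul_inv_rev, hinv]
      calc P * blk t 1 * blk d C₀ * (blk t⁻¹ 1 * P⁻¹)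
          = P * (blk t 1 * blk d C₀ * blk t⁻¹ 1) * P⁻¹ := by simp only [mul_assoc]
        _ = _ := by rw [hcomm]
    rw [e1]
    exact h

end Cfsg.Agent.H962.PP
end

-- part: H295/War/Witt
section
prune_inst 0x300000000000000000000000000000000
set_option linter.all false
open scoped Cfsg.Agent.FastGrp

/-!
# The Witt index of the standard forms (helper295, S2453)
-/

set_option autoImplicit false

namespace Cfsg.Agent.H295.War

open Module QuadraticMap Cfsg.Agent.LieClassical.OrthCore Cfsg.Agent.LieClassical.OrthTrans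
  Cfsg.Agent.LieClassical.OrthForms Cfsg.Agent.H434.Corn

variable {F : Type*} [Field F]

/-- a maximal totally singular subspace given by an injective map -/
theorem wittOf {ι : Type*} [Fintype ι] {Q : QuadraticForm F (ι → F)} {m : ℕ} (T : (Fin m → F) →ₗ[F] (ι → F))
    (hT : Function.Injective T) (h1 : ∀ c, Q (T c) = 0)
    (h2 : ∀ x, Q x = 0 → (∀ c, polar Q (T c) x = 0) → ∃ c, T c = x) :
    ∀ W, MaxTS Q W → finrank F W = m := by
  intro W hW
  have h3 : MaxTS Q (LinearMap.range T) := by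
    refine ⟨?_, fun x hx h => ?_⟩
    · rintro _ ⟨c, rfl⟩
      exact h1 c
    · obtain ⟨c, hc⟩ := h2 x hx (fun c => h _ ⟨c, rfl⟩)
      exact ⟨c, hc⟩
  rw [h3.finrank_eq hW, LinearMap.finrank_range_of_inj hT, finrank_fin_fun]

/-- `c ↦ (c, 0)` -/
def inlL (F : Type*) [Field F] (α β : Type*) : (α → F) →ₗ[F] (α ⊕ β → F) where
  toFun c := Sum.elim c 0
  map_add' a b := by ext (i | i) <;> simp
  map_smul' a b := by ext (i | i) <;> simp

@[simp] theorem inlL_inl {α β : Type*} (c : α → F) (i : α) : inlL F α β c (Sum.inl i) = c i := rfl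
@[simp] theorem inlL_inr {α β : Type*} (c : α → F) (i : β) : inlL F α β c (Sum.inr i) = 0 := rfl

/-- `c ↦ (0, c)` -/
def inrL (F : Type*) [Field F] (α β : Type*) : (β → F) →ₗ[F] (α ⊕ β → F) where
  toFun c := Sum.elim 0 c
  map_add' a b := by ext (i | i) <;> simp
  map_smul' a b := by ext (i | i) <;> simp

@[simp] theorem inrL_inl {α β : Type*} (c : β → F) (i : α) : inrL F α β c (Sum.inl i) = 0 := rfl
@[simp] theorem inrL_inr {α β : Type*} (c : β → F) (i : β) : inrL F α β c (Sum.inr i) = c i := rfl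

theorem inlL_inj {α β : Type*} : Function.Injective (inlL F α β) := by
  intro a b h
  funext i
  have := congrFun h (Sum.inl i)
  simpa using this

theorem inrL_inj {α β : Type*} : Function.Injective (inrL F α β) := by
  intro a b h
  funext i
  have := congrFun h (Sum.inr i)
  simpa using this

theorem witt_plus (m : ℕ) : ∀ W, MaxTS (plusForm m F) W → finrank F W = m := by
  refine wittOf (inlL F (Fin m) (Fin m)) inlL_inj (fun c => ?_) (fun x hx h => ?_)
  · rw [coe_plusForm, quadFormPlus_apply]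
    simp
  · refine ⟨fun i => x (Sum.inl i), ?_⟩
    ext (i | i)
    · rfl
    · have h1 := h (Pi.single i 1)
      rw [polar_plusForm] at h1
      simp [Pi.single_apply] at h1
      simpa using h1.symm

theorem witt_minus (m : ℕ) (a b : F)
    (hab : ∀ z₁ z₂ : F, z₁ ^ 2 + a * z₁ * z₂ + b * z₂ ^ 2 = 0 → z₁ = 0 ∧ z₂ = 0) :
    ∀ W, MaxTS (minusForm m F a b) W → finrank F W = m := by
  refine wittOf (inlL F (Fin m ⊕ Fin m) (Fin 2) ∘ₗ inlL F (Fin m) (Fin m)) (inlL_inj.comp inlL_inj)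
    (fun c => ?_) (fun x hx h => ?_)
  · rw [coe_minusForm, quadFormMinus_apply]
    simp
  · have h0 : ∀ i, x (Sum.inl (Sum.inr i)) = 0 := by
      intro i
      have h1 := h (Pi.single i 1)
      rw [polar_minusForm] at h1
      simp [Pi.single_apply] at h1
      exact h1
    rw [coe_minusForm, quadFormMinus_apply] at hx
    simp only [h0, mul_zero, Finset.sum_const_zero, zero_add] at hx
    obtain ⟨h2, h3⟩ := hab _ _ hx
    refine ⟨fun i => x (Sum.inl (Sum.inl i)), ?_⟩
    ext ((i | i) | i)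
    · rfl
    · simp [h0]
    · fin_cases i
      · simpa using h2.symm
      · simpa using h3.symm

theorem witt_odd (m : ℕ) : ∀ W, MaxTS (oddForm m F) W → finrank F W = m := by
  refine wittOf (inrL F Unit (Fin m ⊕ Fin m) ∘ₗ inlL F (Fin m) (Fin m)) (inrL_inj.comp inlL_inj)
    (fun c => ?_) (fun x hx h => ?_)
  · rw [coe_oddForm, quadFormOdd_apply]
    simp
  · have h0 : ∀ i, x (Sum.inr (Sum.inr i)) = 0 := by
      intro i
      have h1 := h (Pi.single i 1)
      rw [polar_oddForm] at h1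
      simp [Pi.single_apply] at h1
      exact h1
    rw [coe_oddForm, quadFormOdd_apply] at hx
    simp only [h0, mul_zero, Finset.sum_const_zero, add_zero] at hx
    refine ⟨fun i => x (Sum.inr (Sum.inl i)), ?_⟩
    ext (i | (i | i))
    · simpa using (pow_eq_zero_iff (two_ne_zero)).1 hx |>.symm
    · rfl
    · simp [h0]

end Cfsg.Agent.H295.War
end

-- part: H950/War/RowB
section
prune_inst 0x40000000000000800002000002000004800002000000000080008000000000200000000000000000002000000000000000000000000000000000000000000000000000000000000000000000000000000000000000000000000000000000000000000000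
set_option linter.all false
open scoped Cfsg.Agent.FastGrp

-- part: H950/War/Defs
section
/-!
# S2453 for `PSU_n(q)` (row L3): definitions (helper950)

`W B e N g` : `g` is `x ^ e * y ^ e` with isometries `x`, `y` of determinant one, `x ^ N = 1 = y ^ N`.
`PW q σ m e f` : `f` is the characteristic polynomial of an `e`-th power which is good for the criterion of S2446.
-/

set_option autoImplicit false

namespace Cfsg.Agent.H950.War

open Module Polynomial Cfsg.Agent.H951 Matrix Cfsg.Agent.H98.Ore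

/-- `g = x ^ e * y ^ e`, `x ^ N = 1 = y ^ N` -/
def W {F V : Type*} [Field F] [AddCommGroup V] [Module F V] (B : V → V → F) (e N : ℕ) (g : V ≃ₗ[F] V) : Prop :=
  ∃ x ∈ SGr B, ∃ y ∈ SGr B, g = x ^ e * y ^ e ∧ x ^ N = 1 ∧ y ^ N = 1

/-- the polynomials `f` we use -/
structure PW {F : Type*} [Field F] (q : ℕ) (σ : F →+* F) (m e : ℕ) (f : F[X]) : Prop where
  irr : Irreducible f
  monic : f.Monic
  deg : f.natDegree = m
  c0 : σ (f.coeff 0) = f.coeff 0
  cop : IsCoprime f (f.map σ).reverse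
  scal : ∀ l : F, l ^ (q + 1) = 1 → l ^ m = 1 → l ≠ 1 → f.scaleRoots l ≠ f
  root : ∀ {ι : Type} [Fintype ι] [DecidableEq ι] (Z : Matrix ι ι F), Z.charpoly = f →
    ∃ Z₀ : Matrix ι ι F, Z = Z₀ ^ e ∧ σ Z₀.det = Z₀.det ∧ Z₀ ^ (q ^ (2 * m) - 1) = 1

end Cfsg.Agent.H950.War
end

-- part: H950/War/Crit
section
/-!
# S2453 for `PSU_n(q)`: the criterion (helper950), after `Cfsg.Agent.H98.Ore.criterion`
-/

set_option autoImplicit false
set_option linter.unusedSectionVars false

namespace Cfsg.Agent.H950.War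

open Module Polynomial Cfsg.Agent.H951 Matrix Cfsg.Agent.H98.Ore

variable {F V : Type*} [Field F] [Fintype F] [AddCommGroup V] [Module F V] [FiniteDimensional F V]
  {q : ℕ} {σ : F →+* F} {B : V → V → F}
  {ι : Type} [Fintype ι] [DecidableEq ι] {w w' : ι → V}

/-- an isometry of determinant one fixing a frame -/
theorem fix_one (hB : HS q σ B) {e : ℕ} (he : e ≤ 1) (hn : finrank F V = 2 * Fintype.card ι + e) (h : Fr B w w')
    {x : V ≃ₗ[F] V} (hx : x ∈ SGr B) (hxw : ∀ j, x (w j) = w j) (hxw' : ∀ j, x (w' j) = w' j) : x = 1 := by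
  obtain ⟨l, hl⟩ := exists_FF hB he hn h
  have hxi := (mem_SGr.1 hx).1
  have hlx : ∀ i, x (l i) = l i := by
    intro i
    have he1 : e = 1 := by have := i.2; omega
    subst he1
    obtain rfl : i = 0 := Subsingleton.elim _ _
    have hd1 := hl.det_eq hB (x := (x : End F V)) hxi (Z := 1) (by simp)
      (fun j => by show x (w j) = _; rw [hxw]; simp only [Matrix.one_apply, _root_.ite_smul, _root_.one_smul, _root_.zero_smul, _root_.Finset.sum_ite_eq', _root_.Finset.mem_univ, ↓ _root_.reduceIte])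
    rw [Matrix.det_one, map_one, mul_one, one_mul, Matrix.det_fin_one, Matrix.of_apply,
      show LinearMap.det (x : End F V) = 1 from (mem_SGr.1 hx).2] at hd1
    have hd2 : B (x (l 0)) (l 0) = 1 := hd1.symm
    have h1 := hl.expand hB (x (l 0))
    have e1 : ∀ i, B (x (l 0)) (w' i) = 0 := by
      intro i
      rw [← hxw' i, hxi, hl.lw']
    have e2 : ∀ i, B (x (l 0)) (w i) = 0 := by
      intro i
      rw [← hxw i, hxi, hl.lw]
    simp only [e1, e2, zero_smul, Finset.sum_const_zero, zero_add, Fin.sum_univ_one, hd2, one_smul] at h1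
    exact h1
  apply LinearEquiv.ext
  intro v
  rw [hl.expand hB v, map_add, map_add, map_sum, map_sum, map_sum]
  simp only [map_smul, hxw, hxw', hlx]
  rfl

/-- the powers of a map preserving a span -/
theorem pow_frame {x : V ≃ₗ[F] V} {Z : Matrix ι ι F} (hxw : ∀ j, x (w j) = ∑ i, Z i j • w i) (n : ℕ) :
    ∀ j, (x ^ n) (w j) = ∑ i, (Z ^ n) i j • w i := by
  induction n with
  | zero => intro j; simp only [Matrix.one_apply, _root_.pow_zero, _root_.LinearEquiv.coe_one, _root_.id_eq, _root_.ite_smul, _root_.one_smul, _root_.zero_smul, _root_.Finset.sum_ite_eq', _root_.Finset.mem_univ, ↓ _root_.reduceIte]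
  | succ n ih =>
    intro j
    rw [pow_succ, LinearEquiv.mul_apply, hxw, map_sum]
    simp only [map_smul, ih, Finset.smul_sum, smul_smul]
    rw [Finset.sum_comm]
    simp only [← Finset.sum_smul]
    refine Finset.sum_congr rfl fun i _ => ?_
    rw [pow_succ, Matrix.mul_apply]
    congr 1
    exact Finset.sum_congr rfl fun k _ => mul_comm _ _

theorem ist_one (hB : HS q σ B) : ist σ (1 : Matrix ι ι F) = 1 := by
  ext i j
  rw [ist_apply, inv_one, Matrix.one_apply, Matrix.one_apply]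
  by_cases h : i = j
  · rw [if_pos h, if_pos h.symm, map_one]
  · rw [if_neg h, if_neg (Ne.symm h), map_zero]

theorem ist_pow (hB : HS q σ B) (Z : Matrix ι ι F) (n : ℕ) : ist σ (Z ^ n) = ist σ Z ^ n := by
  induction n with
  | zero => rw [pow_zero, pow_zero, ist_one hB]
  | succ n ih => rw [pow_succ, ist_mul, ih, pow_succ]

/-- an isometry of determinant one with a prescribed action on a frame -/
theorem exists_lev (hB : HS q σ B) {e : ℕ} (he : e ≤ 1) (hn : finrank F V = 2 * Fintype.card ι + e) (h : Fr B w w')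
    {Z : Matrix ι ι F} (hZ0 : Z.det ≠ 0) (hZ : e = 0 → σ Z.det = Z.det) :
    ∃ x ∈ SGr B, (∀ j, x (w j) = ∑ i, Z i j • w i) ∧ ∀ j, x (w' j) = ∑ i, ist σ Z i j • w' i := by
  obtain ⟨x₀, hx, hxw, hxw', hxd⟩ := exists_isom hB he hn h (h.trans hB (ist_dual hB hZ0))
  have hxd1 : LinearMap.det x₀ = 1 := by
    rcases Nat.le_one_iff_eq_zero_or_eq_one.1 he with h0 | h0
    · have h3 := det_even hB (by rw [hn, h0, add_zero]) h hx hZ0 hxw
      rw [hZ h0] at h3
      exact mul_right_cancel₀ hZ0 (by rw [h3, one_mul])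
    · exact hxd h0
  set x : V ≃ₗ[F] V := LinearEquiv.ofInjectiveEndo x₀ (Isom.inj' hB hx) with hxdef
  have hx0 : (x : V →ₗ[F] V) = x₀ := by ext v; rfl
  exact ⟨x, mem_SGr.2 ⟨hx, by rw [hx0, hxd1]⟩, hxw, hxw'⟩

/-- **the criterion** -/
theorem criterionW (hB : HS q σ B) {G : V ≃ₗ[F] V} (hGmem : G ∈ SGr B)
    (hι : finrank F V = 2 * Fintype.card ι ∨ finrank F V = 2 * Fintype.card ι + 1) {P Z₀ h : Matrix ι ι F} {t N : ℕ}
    (hP : Cor B (G : End F V) P) (hPZ : P * Z₀ ^ t * h = h * Z₀ ^ t) (hh : h.det = 1) (hZ₀ : Z₀.det ≠ 0)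
    (hZσ : finrank F V = 2 * Fintype.card ι → σ Z₀.det = Z₀.det) (hN : Z₀ ^ N = 1)
    (h1 : IsCoprime (Z₀ ^ t).charpoly ((Z₀ ^ t).charpoly.map σ).reverse)
    (h2 : (Z₀ ^ t).charpoly.eval (σ (Z₀ ^ t).det * (Z₀ ^ t).det⁻¹) ≠ 0) : W B t N G := by
  obtain ⟨w, w', hw, hPw⟩ := hP
  obtain ⟨e, he, hn⟩ : ∃ e, e ≤ 1 ∧ finrank F V = 2 * Fintype.card ι + e := by
    rcases hι with h3 | h3
    · exact ⟨0, by norm_num, by omega⟩
    · exact ⟨1, le_rfl, h3⟩
  set Z := Z₀ ^ t with hZdef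
  have hZ0 : Z.det ≠ 0 := by rw [hZdef, Matrix.det_pow]; exact pow_ne_zero _ hZ₀
  have hZ : finrank F V = 2 * Fintype.card ι → σ Z.det = Z.det := fun h3 => by
    rw [hZdef, Matrix.det_pow, map_pow, hZσ h3]
  have hPZ0 : (P * Z).det ≠ 0 := by
    have h3 := congrArg Matrix.det hPZ
    rw [Matrix.det_mul, Matrix.det_mul h, hh, mul_one, one_mul] at h3
    rw [h3]; exact hZ0
  have hh0 : h.det ≠ 0 := by rw [hh]; exact one_ne_zero
  have hGg : ∀ v, B (G v) = B ((G : End F V) v) := fun v => rfl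
  -- the frame for z
  have hfr : Fr B (fun j => ∑ i, Z i j • w i) (fun j => G⁻¹ (∑ i, ist σ (P * Z) i j • w' i)) := by
    have hGG : ∀ v, G (G⁻¹ v) = v := fun v => by
      rw [← LinearEquiv.mul_apply, mul_inv_cancel]; rfl
    have hg := (mem_SGr.1 hGmem).1
    refine ⟨fun i j => ?_, fun i j => ?_, fun i j => ?_⟩
    · rw [sum_left' hB]
      simp only [sum_right' hB]
      simp only [hw.ww, _root_.MulZeroClass.mul_zero, _root_.Finset.sum_const_zero]
    · rw [← hg, hGG, map_sum]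
      simp only [map_smul]
      rw [sum_left' hB]
      simp only [sum_right' hB]
      have hPw' : ∀ i j, B (G (w j)) (w' i) = P i j := hPw
      simp only [hPw']
      rw [← ist_dual hB hPZ0 i j]
      simp only [Matrix.mul_apply, Finset.sum_mul, Finset.mul_sum]
      rw [Finset.sum_comm]
      refine Finset.sum_congr rfl fun k _ => Finset.sum_congr rfl fun m _ => ?_
      ring
    · rw [← hg, hGG, hGG, sum_left' hB]
      simp only [sum_right' hB]
      simp only [hw.ww', _root_.MulZeroClass.mul_zero, _root_.Finset.sum_const_zero]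
  -- the isometries
  obtain ⟨z₀, hz, hzw, hzw', hzd⟩ := exists_isom hB he hn hw hfr
  obtain ⟨X, hXm, hXw, hXw'⟩ := exists_lev hB he hn hw hZ₀ (fun h0 => hZσ (by rw [hn, h0, add_zero]))
  obtain ⟨k, hkm, -, hkw1'⟩ := exists_lev hB he hn hw hh0 (fun _ => by rw [hh, map_one])
  have hzd1 : LinearMap.det z₀ = 1 := by
    rcases Nat.le_one_iff_eq_zero_or_eq_one.1 he with h0 | h0
    · have h3 := det_even hB (by rw [hn, h0, add_zero]) hw hz hZ0 hzw
      rw [hZ (by rw [hn, h0, add_zero])] at h3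
      exact mul_right_cancel₀ hZ0 (by rw [h3, one_mul])
    · exact hzd h0
  have hXN : X ^ N = 1 := by
    refine fix_one hB he hn hw ((SGr B).pow_mem hXm N) (fun j => ?_) (fun j => ?_)
    · rw [pow_frame hXw, hN]
      simp [Matrix.one_apply]
    · rw [pow_frame hXw', ← ist_pow hB, hN, ist_one hB]
      simp only [Matrix.one_apply, _root_.ite_smul, _root_.one_smul, _root_.zero_smul, _root_.Finset.sum_ite_eq', _root_.Finset.mem_univ, ↓ _root_.reduceIte]
  set x : V ≃ₗ[F] V := X ^ t with hxdef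
  have hxm : x ∈ SGr B := (SGr B).pow_mem hXm t
  have hxw1 : ∀ j, x (w j) = ∑ i, Z i j • w i := pow_frame hXw t
  have hxw1' : ∀ j, x (w' j) = ∑ i, ist σ Z i j • w' i := by
    intro j
    rw [hZdef, ist_pow hB]
    exact pow_frame hXw' t j
  set z : V ≃ₗ[F] V := LinearEquiv.ofInjectiveEndo z₀ (Isom.inj' hB hz) with hzdef
  have hz0 : (z : V →ₗ[F] V) = z₀ := by ext v; rfl
  have hzm : z ∈ SGr B := mem_SGr.2 ⟨hz, by rw [hz0, hzd1]⟩
  have hzw1 : ∀ j, z (w j) = ∑ i, Z i j • w i := hzw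
  have hzw1' : ∀ j, z (w' j) = G⁻¹ (∑ i, ist σ (P * Z) i j • w' i) := hzw'
  have hfw : ∀ j, aeval (x : End F V) Z.charpoly (w j) = 0 := by
    intro j
    rw [aeval_frame (x := (x : End F V)) hxw1, Matrix.aeval_self_charpoly]
    simp only [_root_.Matrix.zero_apply, _root_.zero_smul, _root_.Finset.sum_const_zero]
  obtain ⟨u₁, hu₁, hzu⟩ := conj_same hB he hn hw hxm hzm hZ0 hxw1 hzw1 hfw h1 (fun _ => h2)
  -- the second conjugation
  set y : V ≃ₗ[F] V := k⁻¹ * (G * z) * k with hydef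
  have hym : y ∈ SGr B :=
    (SGr B).mul_mem ((SGr B).mul_mem ((SGr B).inv_mem hkm) ((SGr B).mul_mem hGmem hzm)) hkm
  have hcomp : ∀ (X Y : Matrix ι ι F) (a : V ≃ₗ[F] V), (∀ j, a (w' j) = ∑ i, X i j • w' i) →
      ∀ j, a (∑ i, Y i j • w' i) = ∑ i, (X * Y) i j • w' i := by
    intro X Y a ha j
    rw [map_sum]
    simp only [map_smul, ha, Finset.smul_sum, smul_smul]
    rw [Finset.sum_comm]
    simp only [← Finset.sum_smul]
    refine Finset.sum_congr rfl fun i _ => ?_
    rw [Matrix.mul_apply]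
    congr 1
    exact Finset.sum_congr rfl fun k _ => mul_comm _ _
  have hGz : ∀ j, (G * z) (w' j) = ∑ i, ist σ (P * Z) i j • w' i := by
    intro j
    rw [LinearEquiv.mul_apply, hzw1', ← LinearEquiv.mul_apply, mul_inv_cancel]
    rfl
  have hyw' : ∀ j, y (w' j) = ∑ i, ist σ Z i j • w' i := by
    intro j
    have h3 : k (∑ i, ist σ Z i j • w' i) = (G * z) (k (w' j)) := by
      rw [hcomp _ _ k hkw1', hkw1', hcomp _ _ (G * z) hGz, ← ist_mul, ← ist_mul, hPZ]
    rw [hydef, LinearEquiv.mul_apply, LinearEquiv.mul_apply, ← h3, ← LinearEquiv.mul_apply, inv_mul_cancel]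
    rfl
  have hcoeff : Z.charpoly.coeff 0 ≠ 0 := by
    intro h0
    apply hZ0
    rw [Matrix.det_eq_sign_charpoly_coeff, h0, mul_zero]
  have hxinv : (x : End F V) * ((x⁻¹ : V ≃ₗ[F] V) : End F V) = 1 := by
    ext v
    change x (x⁻¹ v) = v
    rw [← LinearEquiv.mul_apply, mul_inv_cancel]; rfl
  have hxinv' : ((x⁻¹ : V ≃ₗ[F] V) : End F V) * (x : End F V) = 1 := by
    ext v
    change x⁻¹ (x v) = v
    rw [← LinearEquiv.mul_apply, inv_mul_cancel]; rfl
  have hx : Isom B (x : End F V) := (mem_SGr.1 hxm).1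
  have hfw' : ∀ j, aeval (x : End F V) (Z.charpoly.map σ).reverse (w' j) = 0 := by
    intro j
    have h3 := aeval_frame (x := (x : End F V)) (w := w') hxw1' (Z.charpoly.map σ).reverse j
    rw [h3]
    apply Finset.sum_eq_zero
    intro i _
    have h4 : B (aeval (x : End F V) (Z.charpoly.map σ).reverse (w' j)) (w i) = 0 := by
      rw [B_aeval hB (x := (x : End F V)) hx hxinv, map_rev_map hB.ss, aeval_reverse' hxinv', Module.End.mul_apply, hfw, map_zero,
        hB.zero_right]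
    rw [h3, sum_left' hB] at h4
    simp only [hw.dual' hB, mul_ite, mul_one, mul_zero, Finset.sum_ite_eq', Finset.mem_univ, if_true] at h4
    rw [h4, zero_smul]
  have hσZ0 : σ Z.det ≠ 0 := (_root_.map_ne_zero σ).2 hZ0
  have hist0 : (ist σ Z).det ≠ 0 := by
    rw [det_ist, map_inv₀]
    exact inv_ne_zero hσZ0
  obtain ⟨u₂, hu₂, hyu⟩ := conj_same hB he hn (hw.swap hB) hxm hym hist0 hxw1' hyw' hfw' (by
    rw [map_rev_map hB.ss, reverse_reverse' hcoeff]
    exact h1.symm) (by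
    intro _ h3
    apply h2
    rw [det_ist, map_inv₀, inv_inv, map_inv₀, hB.ss] at h3
    set c := σ Z.det * Z.det⁻¹ with hcdef
    have hc0 : c ≠ 0 := mul_ne_zero hσZ0 (inv_ne_zero hZ0)
    have h4 : (Z.det)⁻¹ * σ Z.det = c := mul_comm _ _
    rw [h4] at h3
    let _ : Invertible c⁻¹ := invertibleOfNonzero (inv_ne_zero hc0)
    have h5 := eval₂_reverse_eq_zero_iff (RingHom.id F) (c⁻¹) (Z.charpoly.map σ)
    have h6 : (⅟(c⁻¹) : F) = c := by rw [invOf_eq_inv, inv_inv]
    rw [h6, ← eval, h3, eq_self_iff_true, true_iff, ← eval, eval_map] at h5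
    have h7 : c⁻¹ = σ c := by
      rw [hcdef, map_mul, map_inv₀, hB.ss, mul_inv, inv_inv, mul_comm]
    rw [h7, eval₂_at_apply] at h5
    exact (map_eq_zero σ).1 h5)
  -- assemble
  refine ⟨k * u₂ * X * (k * u₂)⁻¹, (SGr B).mul_mem ((SGr B).mul_mem ((SGr B).mul_mem hkm hu₂) hXm)
    ((SGr B).inv_mem ((SGr B).mul_mem hkm hu₂)), u₁ * X⁻¹ * u₁⁻¹,
    (SGr B).mul_mem ((SGr B).mul_mem hu₁ ((SGr B).inv_mem hXm)) ((SGr B).inv_mem hu₁), ?_, ?_, ?_⟩
  · rw [conj_pow, conj_pow, inv_pow, ← hxdef]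
    have h3 : G * z = k * y * k⁻¹ := by rw [hydef]; group
    have h5 : G = (k * y * k⁻¹) * z⁻¹ := by rw [← h3]; group
    rw [h5, hyu, hzu]
    group
  · rw [conj_pow, hXN]
    group
  · rw [conj_pow, inv_pow, hXN]
    group

end Cfsg.Agent.H950.War
end

-- part: H950/War/FrameOdd
section
/-!
# S2453 for `PSU_n(q)`: a frame for `c + rank one` in odd dimension (helper950)
-/

set_option autoImplicit false

namespace Cfsg.Agent.H950.War

open Module Polynomial Cfsg.Agent.H951 Matrix Cfsg.Agent.H98.Ore Cfsg.Agent.H951.OreU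
open Cfsg.Agent.LieClassical.HermBasic

variable {F V : Type*} [Field F] [Fintype F] [AddCommGroup V] [Module F V] [FiniteDimensional F V]
  {q : ℕ} {σ : F →+* F} {B : V → V → F}

theorem frame_transv_odd (hB : HS q σ B) {m : ℕ} (hm : 2 ≤ m) (hn : finrank F V = 2 * m + 1) {g : End F V} {c k : F}
    {e : V} (hc : c ≠ 0) (hk : k ≠ 0) (hee : B e e ≠ 0) (hgv : ∀ v, g v = c • v + (k * B v e) • e) :
    ∃ u φ : Fin m → F, u ≠ 0 ∧ φ ≠ 0 ∧ φ ⬝ᵥ u = 0 ∧
      Cor B g (c • ((1 : Matrix (Fin m) (Fin m) F) + Matrix.vecMulVec u φ)) := by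
  obtain ⟨m, rfl⟩ : ∃ k, m = k + 2 := ⟨m - 2, by omega⟩
  let U : Submodule F V := hB.frm.perp (Submodule.span F {e})
  have hU : ∀ v, v ∈ U ↔ B v e = 0 := by
    intro v
    constructor
    · intro h
      exact h e (Submodule.mem_span_singleton_self e)
    · intro h w hw
      obtain ⟨a, rfl⟩ := Submodule.mem_span_singleton.1 hw
      rw [hB.frm.smul_right, h, mul_zero]
  have hfr := finrank_aniso hB hee hU
  obtain ⟨u, u', hu⟩ := exists_fr (m + 2) (hs_res_aniso hB hee hU) (by omega)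
  have hww : ∀ i j, B (u i : V) (u j) = 0 := hu.ww
  have hdual : ∀ i j, B (u i : V) (u' j) = if i = j then 1 else 0 := hu.dual
  have hww' : ∀ i j, B (u' i : V) (u' j) = 0 := hu.ww'
  have hdual' : ∀ i j, B (u' i : V) (u j) = if i = j then 1 else 0 := by
    intro i j
    rw [symm hB (u j : V) (u' i), hdual]
    by_cases hij : i = j
    · subst hij; simp
    · rw [if_neg hij, if_neg (Ne.symm hij), map_zero]
  have hue : ∀ i, B (u i : V) e = 0 := fun i => (hU _).1 (u i).2
  have hue' : ∀ i, B (u' i : V) e = 0 := fun i => (hU _).1 (u' i).2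
  have heu : ∀ i, B e (u i : V) = 0 := fun i => hB.frm.eq_zero_comm.1 (hue i)
  have heu' : ∀ i, B e (u' i : V) = 0 := fun i => hB.frm.eq_zero_comm.1 (hue' i)
  set s := B e e with hs
  have hσs : σ s = s := by rw [hs, ← symm hB]
  obtain ⟨α, hα⟩ : ∃ α : F, α + σ α = -s := by
    obtain ⟨α, hα⟩ := exists_trace_eq hB.card (c := -s) (by rw [← hB.sig, map_neg, hσs])
    exact ⟨α, by rw [hB.sig]; exact hα⟩
  have h01 : (0 : Fin (m + 2)) ≠ 1 := Fin.zero_ne_one
  let d : Fin (m + 2) → Fin (m + 2) → F := fun a b => if a = b then 1 else 0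
  have hσd : ∀ a b, σ (d a b) = d a b := by
    intro a b
    show σ (if a = b then 1 else 0) = if a = b then 1 else 0
    by_cases h : a = b
    · rw [if_pos h, map_one]
    · rw [if_neg h, map_zero]
  have hdd : ∀ a b, (if a = b then (1 : F) else 0) = d a b := fun a b => rfl
  have key : ∀ i : Fin (m + 2), (i = 0 ∧ d i 0 = 1 ∧ d i 1 = 0 ∧ d 0 i = 1 ∧ d 1 i = 0) ∨
      (i = 1 ∧ d i 0 = 0 ∧ d i 1 = 1 ∧ d 0 i = 0 ∧ d 1 i = 1) ∨
      (d i 0 = 0 ∧ d i 1 = 0 ∧ d 0 i = 0 ∧ d 1 i = 0) := by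
    intro i
    by_cases h1 : i = 0
    · left; subst h1; simp [d]
    · by_cases h2 : i = 1
      · right; left; subst h2; simp [d]
      · right; right
        have h3 : ¬ (0 : Fin (m + 2)) = i := fun h => h1 h.symm
        have h4 : ¬ (1 : Fin (m + 2)) = i := fun h => h2 h.symm
        simp [d, h1, h2, h3, h4]
  have d00 : d 0 0 = 1 := if_pos rfl
  have d11 : d 1 1 = 1 := if_pos rfl
  have d01 : d 0 1 = 0 := if_neg h01
  have d10 : d 1 0 = 0 := if_neg h01.symm
  -- the new frame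
  refine ⟨Pi.single 1 (c⁻¹ * k * s ^ 2), Pi.single 0 1, ?_, ?_, ?_,
    fun i => (u i : V) + d i 0 • (α • (u' 0 : V) + e),
    fun i => (u' i : V) + d i 1 • (α • (u 1 : V) + e - s • (u' 0 : V)), ⟨?_, ?_, ?_⟩, ?_⟩
  · intro h1
    have := congrFun h1 1
    rw [Pi.single_eq_same] at this
    exact mul_ne_zero (mul_ne_zero (inv_ne_zero hc) hk) (pow_ne_zero _ hee) this
  · intro h1
    have := congrFun h1 0
    rw [Pi.single_eq_same] at this
    exact one_ne_zero this
  · rw [single_dotProduct, one_mul, Pi.single_eq_of_ne h01]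
  · intro i j
    simp only [hB.frm.add_left, hB.frm.add_right, hB.frm.smul_left, hB.frm.smul_right, hww, hdual, hdual', hww', hue,
      hue', heu, heu', ← hs, hdd, hσd]
    by_cases h1 : i = 0
    · by_cases h2 : j = 0
      · subst h1; subst h2
        simp only [d, if_true]
        linear_combination hα
      · have h3 : ¬ (0 : Fin (m + 2)) = j := fun h => h2 h.symm
        simp [d, h1, h2, h3]
    · have h3 : ¬ (0 : Fin (m + 2)) = i := fun h => h1 h.symm
      by_cases h2 : j = 0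
      · simp [d, h1, h2, h3]
      · simp [d, h1, h2, h3]
  · intro i j
    simp only [hB.frm.add_left, hB.frm.add_right, hB.frm.sub_right, hB.frm.smul_left, hB.frm.smul_right, hww, hdual,
      hdual', hww', hue, hue', heu, heu', ← hs, hdd, hσd, hσs]
    rcases key i with ⟨rfl, a1, a2, a3, a4⟩ | ⟨rfl, a1, a2, a3, a4⟩ | ⟨a1, a2, a3, a4⟩ <;>
    rcases key j with ⟨rfl, b1, b2, b3, b4⟩ | ⟨rfl, b1, b2, b3, b4⟩ | ⟨b1, b2, b3, b4⟩ <;>
    simp only [d00, d11, d01, d10, a1, a2, a3, a4, b1, b2, b3, b4] <;> ring1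
  · intro i j
    simp only [hB.frm.add_left, hB.frm.add_right, hB.frm.sub_left, hB.frm.sub_right, hB.frm.smul_left,
      hB.frm.smul_right, hB.frm.zero_left, hww, hdual, hdual', hww', hue, hue', heu, heu', ← hs, hdd, hσd, hσs]
    rcases key i with ⟨rfl, a1, a2, a3, a4⟩ | ⟨rfl, a1, a2, a3, a4⟩ | ⟨a1, a2, a3, a4⟩ <;>
    rcases key j with ⟨rfl, b1, b2, b3, b4⟩ | ⟨rfl, b1, b2, b3, b4⟩ | ⟨b1, b2, b3, b4⟩ <;>
    simp only [d00, d11, d01, d10, a1, a2, a3, a4, b1, b2, b3, b4] <;>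
    first | (ring1) | linear_combination hα
  · intro i j
    have hji : d j i = d i j := by
      show (if j = i then (1 : F) else 0) = if i = j then 1 else 0
      by_cases h : i = j
      · rw [if_pos h, if_pos h.symm]
      · rw [if_neg h, if_neg (Ne.symm h)]
    have p1 : (Pi.single 1 (c⁻¹ * k * s ^ 2) : Fin (m + 2) → F) i = c⁻¹ * k * s ^ 2 * d i 1 := by
      rw [Pi.single_apply]
      change (if i = 1 then _ else _) = _ * (if i = 1 then (1 : F) else 0)
      rw [mul_ite, mul_one, mul_zero]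
    have p2 : (Pi.single 0 1 : Fin (m + 2) → F) j = d j 0 := by
      rw [Pi.single_apply]
    have hcc : c * (c⁻¹ * k * s ^ 2) = k * s ^ 2 := by field_simp
    have hR : (c • ((1 : Matrix (Fin (m + 2)) (Fin (m + 2)) F) +
        Matrix.vecMulVec (Pi.single 1 (c⁻¹ * k * s ^ 2) : Fin (m + 2) → F) (Pi.single 0 1 : Fin (m + 2) → F)) :
          Matrix (Fin (m + 2)) (Fin (m + 2)) F) i j =
        c * d i j + k * s ^ 2 * (d i 1 * d j 0) := by
      rw [Matrix.smul_apply, Matrix.add_apply, Matrix.one_apply, Matrix.vecMulVec_apply, p1, p2, smul_eq_mul, ← hcc,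
        hdd]
      ring
    rw [hR]
    simp only [hgv, hB.frm.add_left, hB.frm.add_right, hB.frm.sub_right, hB.frm.smul_left, hB.frm.smul_right, hww, hdual,
      hdual', hww', hue, hue', heu, heu', ← hs, hdd, hσd, hσs]
    rcases key i with ⟨rfl, a1, a2, a3, a4⟩ | ⟨rfl, a1, a2, a3, a4⟩ | ⟨a1, a2, a3, a4⟩ <;>
    rcases key j with ⟨rfl, b1, b2, b3, b4⟩ | ⟨rfl, b1, b2, b3, b4⟩ | ⟨b1, b2, b3, b4⟩ <;>
    simp only [d00, d11, d01, d10, a1, a2, a3, a4, b1, b2, b3, b4, hji] <;> ring1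

end Cfsg.Agent.H950.War
end

-- part: H950/War/Fit
section
/-!
# S2453 for `PSU_n(q)`, `n ≥ 4`: non-scalar elements are `x ^ e * y ^ e` (helper950)
-/

set_option autoImplicit false
set_option linter.unusedSectionVars false

namespace Cfsg.Agent.H950.War

open Module Polynomial Cfsg.Agent.H951 Matrix Cfsg.Agent.H98.Ore Cfsg.Agent.H951.OreU Cfsg.Agent.H984.Ore
open Cfsg.Agent.LieClassical.HermBasic

variable {F V : Type*} [Field F] [Fintype F] [AddCommGroup V] [Module F V] [FiniteDimensional F V]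
  {q : ℕ} {σ : F →+* F} {B : V → V → F}

/-- a corner `P` of `g` and a matrix `Z` with characteristic polynomial `f` such that `P * Z` and `Z` are conjugate under
a matrix of determinant one -/
def Fit (B : V → V → F) (f : F[X]) (g : V ≃ₗ[F] V) : Prop :=
  ∃ (ι : Type) (_ : Fintype ι) (_ : DecidableEq ι) (P Z h : Matrix ι ι F),
    (finrank F V = 2 * Fintype.card ι ∨ finrank F V = 2 * Fintype.card ι + 1) ∧ Cor B (g : End F V) P ∧
      Z.charpoly = f ∧ h.det = 1 ∧ P * Z * h = h * Z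

theorem eval_ne {m e : ℕ} {f : F[X]} (hf : PW q σ m e f) (hm : 2 ≤ m) (x : F) : f.eval x ≠ 0 := by
  intro hx
  have h1 := Polynomial.degree_eq_one_of_irreducible_of_root hf.irr hx
  have h2 : f.natDegree = 1 := Polynomial.natDegree_eq_of_degree_eq_some h1
  have := hf.deg
  omega

theorem W_of_fit (hB : HS q σ B) {m e : ℕ} (hm : 2 ≤ m) (he : 1 ≤ e)
    (hn : finrank F V = 2 * m ∨ finrank F V = 2 * m + 1) {f : F[X]}
    (hf : PW q σ m e f) {g : V ≃ₗ[F] V} (hg : g ∈ SGr B) (h : Fit B f g) : W B e (q ^ (2 * m) - 1) g := by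
  obtain ⟨ι, _, _, P, Z, h, hcard, hcor, hZ, hh, hPZ⟩ := h
  obtain ⟨Z₀, rfl, hσ, hN⟩ := hf.root Z hZ
  have hZdet : (Z₀ ^ e).det ≠ 0 := by
    rw [Matrix.det_eq_sign_charpoly_coeff, hZ, Polynomial.coeff_zero_eq_eval_zero]
    exact mul_ne_zero (pow_ne_zero _ (neg_ne_zero.2 one_ne_zero)) (eval_ne hf hm 0)
  have hZ₀ : Z₀.det ≠ 0 := by
    intro h0
    apply hZdet
    rw [Matrix.det_pow, h0, zero_pow (by omega)]
  refine criterionW hB hg hcard hcor hPZ hh hZ₀ (fun _ => hσ) hN ?_ ?_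
  · rw [hZ]; exact hf.cop
  · rw [hZ]; exact eval_ne hf hm _

theorem fit_of_good (hB : HS q σ B) {m e : ℕ} (hm : 2 ≤ m)
    (hn : finrank F V = 2 * m ∨ finrank F V = 2 * m + 1) {f : F[X]}
    (hf : PW q σ m e f) {g : V ≃ₗ[F] V} (h : Good B (g : End F V)) : Fit B f g := by
  obtain ⟨ι, hι1, hι2, P, hcard, hcor, hPd, x, p, hp, hpx⟩ := h
  have hm' : Fintype.card ι = m := by omega
  have hq2 := LieClassical.HermBasic.two_le hB.card
  have hF4 : 4 ≤ Nat.card F := by
    rw [Nat.card_eq_fintype_card, hB.card]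
    nlinarith only [hq2]
  obtain ⟨Z, k, hZf, hk, hPZ⟩ := Cfsg.Agent.H864.Ore.gl_comm hF4 P hPd x p hp hpx f hf.irr hf.monic
    (by rw [hf.deg, hm']) (by omega)
  exact ⟨ι, hι1, hι2, P, Z, k, hcard, hcor, hZf, hk, hPZ⟩

theorem fit_rank_one (hB : HS q σ B) {m e : ℕ} (hm : 2 ≤ m)
    (hn : finrank F V = 2 * m ∨ finrank F V = 2 * m + 1) {f : F[X]}
    (hf : PW q σ m e f) {g : V ≃ₗ[F] V} (hgS : g ∈ SGr B)
    {c : F} (hc : finrank F (LinearMap.range ((g : End F V) - c • (1 : End F V))) = 1) : Fit B f g := by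
  obtain ⟨hg, hdet⟩ := mem_SGr.1 hgS
  have hg : Isom B (g : End F V) := hg
  obtain ⟨hcq, e, k, he, hk, hgv⟩ := rank_one_form hB (by omega) hg hc
  have hc0 : c ≠ 0 := by
    rintro rfl
    rw [zero_pow (by omega)] at hcq
    exact zero_ne_one hcq
  have hns : ∀ c' : F, (g : End F V) ≠ c' • (1 : End F V) := by
    intro c' hcc
    rw [hcc] at hc
    have h1 : c' • (1 : End F V) - c • (1 : End F V) = (c' - c) • (1 : End F V) := by rw [sub_smul]
    rw [h1] at hc
    by_cases h2 : c' - c = 0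
    · rw [h2, zero_smul, LinearMap.range_zero, finrank_bot] at hc
      omega
    · have h3 : LinearMap.range ((c' - c) • (1 : End F V)) = ⊤ := by
        rw [LinearMap.range_eq_top]
        intro v
        refine ⟨(c' - c)⁻¹ • v, ?_⟩
        rw [LinearMap.smul_apply, Module.End.one_apply, smul_smul, mul_inv_cancel₀ h2, one_smul]
      rw [h3, finrank_top] at hc
      omega
  obtain ⟨w, hw, hgw⟩ := exists_typeI hB hg hns
  obtain ⟨U, g₁, b, h⟩ := exists_step hB hg hw hgw
  obtain ⟨hU, hfr⟩ := Step.hs hB hg h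
  obtain ⟨rfl, rfl⟩ := step_rank_one hB hgv h
  have hdet' := det_rank_one hB hc0 (by omega) hgv
  rw [hdet] at hdet'
  obtain ⟨m, rfl⟩ : ∃ k, m = k + 1 := ⟨m - 1, by omega⟩
  have hm1 : 1 ≤ m := by omega
  -- the corner `(c ^ m)⁻¹, c, ..., c`
  have hcor : Cor B (g : End F V) (Matrix.fromBlocks (Matrix.of fun (_ _ : Unit) => (c ^ m)⁻¹) 0 0
      (Matrix.diagonal fun _ : Fin m => c)) := by
    have hU' := cor_scalar hU (c := c) (m := m) (by omega)
    rcases hn with hm | hm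
    · obtain ⟨i0, hi0, hi⟩ := exists_trace_zero_ne hB.card
      have hi' : σ i0 = -i0 := by
        rw [hB.sig]
        linear_combination hi
      obtain ⟨R, hR, hcor⟩ := Cfsg.Agent.H24.Ore.cor_step hB hg h hU' i0 hi'
      have hd : (Matrix.fromBlocks (Matrix.of fun (_ _ : Unit) => i0 * B ((g : End F V) w) w) R 0
          (Matrix.diagonal fun _ : Fin m => c)).det = i0 * B ((g : End F V) w) w * c ^ m := by
        rw [det_block, Matrix.det_diagonal, Finset.prod_const, Finset.card_univ, Fintype.card_fin]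
      have hd0 : i0 * B ((g : End F V) w) w * c ^ m ≠ 0 := mul_ne_zero (mul_ne_zero hi0 h.ne) (pow_ne_zero _ hc0)
      have h1 := cor_det hB hg (by
        rw [Fintype.card_sum, Fintype.card_unit, Fintype.card_fin]
        omega) hcor (by rw [hd]; exact hd0)
      rw [hd, hdet, one_mul] at h1
      obtain ⟨R', hR', hcor'⟩ := Cfsg.Agent.H24.Ore.cor_step hB hg h hU'
        (i0 * (i0 * B ((g : End F V) w) w * c ^ m)⁻¹) (by
        rw [map_mul, map_inv₀, ← h1, hi', neg_mul])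
      rw [hR' rfl] at hcor'
      have h2 : i0 * (i0 * B ((g : End F V) w) w * c ^ m)⁻¹ * B ((g : End F V) w) w = (c ^ m)⁻¹ := by
        have h3 := h.ne
        have h4 : c ^ m ≠ 0 := pow_ne_zero _ hc0
        field_simp
      rw [h2] at hcor'
      exact hcor'
    · obtain ⟨R, hR, hcor⟩ := Cfsg.Agent.H24.Ore.cor_step_odd hB hg h (κ := Fin m)
        (by rw [Fintype.card_fin]; omega) hU' (c ^ m)⁻¹
      rw [hR rfl ⟨c, rfl⟩] at hcor
      exact hcor
  have hcm1 : Fintype.card (Unit ⊕ Fin m) = m + 1 := by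
    rw [Fintype.card_sum, Fintype.card_unit, Fintype.card_fin, add_comm]
  have hcard : finrank F V = 2 * Fintype.card (Unit ⊕ Fin m) ∨ finrank F V = 2 * Fintype.card (Unit ⊕ Fin m) + 1 := by
    rw [hcm1]
    exact hn
  by_cases hc1 : c = 1
  · -- `P = 1`
    subst hc1
    have hP1 : Matrix.fromBlocks (Matrix.of fun (_ _ : Unit) => ((1 : F) ^ m)⁻¹) 0 0
        (Matrix.diagonal fun _ : Fin m => (1 : F)) = 1 := by
      rw [one_pow, inv_one, Matrix.diagonal_one, ← Matrix.fromBlocks_one]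
      congr 1
    rw [hP1] at hcor
    obtain ⟨Z, hZ⟩ := exists_matrix (ι := Unit ⊕ Fin m) hf.monic (by
      rw [hf.deg, Fintype.card_sum, Fintype.card_unit, Fintype.card_fin]; omega)
    exact ⟨Unit ⊕ Fin m, inferInstance, inferInstance, 1, Z, 1, hcard, hcor, hZ, Matrix.det_one, by
      rw [one_mul, mul_one]⟩
  by_cases hcm : c ^ (m + 1) = 1
  · obtain ⟨u, φ, hu, hφ, huφ, hcor2⟩ : ∃ u φ : Fin (m + 1) → F, u ≠ 0 ∧ φ ≠ 0 ∧ φ ⬝ᵥ u = 0 ∧
        Cor B (g : End F V) (c • ((1 : Matrix (Fin (m + 1)) (Fin (m + 1)) F) + Matrix.vecMulVec u φ)) := by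
      rcases hn with hm | hm
      · -- a multiple of a transvection
        have hee : B e e = 0 := by
          rw [hm] at hdet'
          have h1 : c ^ (2 * (m + 1)) = 1 := by rw [mul_comm, pow_mul, hcm, one_pow]
          have h2 : c ^ (2 * (m + 1) - 1) * (c + k * B e e) = c ^ (2 * (m + 1)) +
              c ^ (2 * (m + 1) - 1) * k * B e e := by
            conv_rhs => rw [show 2 * (m + 1) = (2 * (m + 1) - 1) + 1 by omega, pow_succ]
            rw [Nat.add_sub_cancel]
            ring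
          rw [h2, h1] at hdet'
          have h3 : c ^ (2 * (m + 1) - 1) * k * B e e = 0 := by linear_combination -hdet'
          exact (mul_eq_zero.1 h3).resolve_left (mul_ne_zero (pow_ne_zero _ hc0) hk)
        exact frame_transv hB (m := m + 1) (by omega) hm hc0 hk he hee hgv
      · have h1 : c ^ (finrank F V - 1) = 1 := by
          rw [hm, Nat.add_sub_cancel, mul_comm, pow_mul, hcm, one_pow]
        rw [h1, one_mul] at hdet'
        refine frame_transv_odd hB (m := m + 1) (by omega) hm hc0 hk ?_ hgv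
        intro h2
        rw [h2, mul_zero, add_zero] at hdet'
        exact hc1 hdet'.symm
    obtain ⟨Z, h', hZ, hh, hPZ⟩ := Cfsg.Agent.H874.OreTransv.gl_transv c (by rw [Fintype.card_fin]; exact hcm)
      u φ hu hφ huφ f hf.irr hf.monic (by rw [hf.deg, Fintype.card_fin]) (by rw [Fintype.card_fin]; omega)
      (hf.scal c hcq hcm hc1)
    exact ⟨Fin (m + 1), inferInstance, inferInstance, _, Z, h', by rw [Fintype.card_fin]; exact hn, hcor2, hZ, hh, hPZ⟩
  · -- `c ^ m * c ≠ 1`: a simple eigenvalue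
    refine fit_of_good hB hm (by omega) hf ⟨Unit ⊕ Fin m, inferInstance, inferInstance, _, hcard, hcor, ?_, (c ^ m)⁻¹,
      (Matrix.diagonal fun _ : Fin m => c).charpoly, charpoly_block _ _ _, ?_⟩
    · rw [det_block, Matrix.det_diagonal, Finset.prod_const, Finset.card_univ, Fintype.card_fin,
        inv_mul_cancel₀ (pow_ne_zero _ hc0)]
    · rw [Matrix.charpoly_diagonal, Finset.prod_const, Polynomial.eval_pow, Polynomial.eval_sub, Polynomial.eval_X,
        Polynomial.eval_C]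
      apply pow_ne_zero
      intro h1
      apply hcm
      have h2 : (c ^ m)⁻¹ = c := sub_eq_zero.1 h1
      calc c ^ (m + 1) = c ^ m * c := pow_succ _ _
        _ = c ^ m * (c ^ m)⁻¹ := by rw [h2]
        _ = 1 := mul_inv_cancel₀ (pow_ne_zero _ hc0)

/-- **non-scalar elements, `n ≥ 4`** -/
theorem W_of_not_scalar (hB : HS q σ B) {m e : ℕ} (hm : 2 ≤ m) (he : 1 ≤ e)
    (hn : finrank F V = 2 * m ∨ finrank F V = 2 * m + 1) {f : F[X]}
    (hf : PW q σ m e f) {g : V ≃ₗ[F] V} (hgS : g ∈ SGr B)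
    (hs : ∀ c : F, (g : End F V) ≠ c • (1 : End F V)) : W B e (q ^ (2 * m) - 1) g := by
  obtain ⟨hg, hdet⟩ := mem_SGr.1 hgS
  have hg : Isom B (g : End F V) := hg
  apply W_of_fit hB hm he hn hf hgS
  have h4 : 4 ≤ finrank F V := by omega
  by_cases h1 : ∃ c : F, finrank F (LinearMap.range ((g : End F V) - c • (1 : End F V))) = 1
  · obtain ⟨c, hc⟩ := h1
    exact fit_rank_one hB hm hn hf hgS hc
  push Not at h1
  have hr : ∀ c : F, 2 ≤ finrank F (LinearMap.range ((g : End F V) - c • (1 : End F V))) := by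
    intro c
    by_contra hcon
    have h5 : finrank F (LinearMap.range ((g : End F V) - c • (1 : End F V))) = 0 := by
      have := h1 c
      omega
    have h6 := Submodule.finrank_eq_zero.1 h5
    rw [LinearMap.range_eq_bot, sub_eq_zero] at h6
    exact hs c h6
  apply fit_of_good hB hm hn hf
  obtain ⟨w, U, g₁, b, hst, h2 | ⟨h2, c, hc1, hc2⟩⟩ := Cfsg.Agent.H954.OreB.exists_good_step hB hg hdet h4 hr
  · rcases Nat.even_or_odd' (finrank F V) with ⟨m, hm | hm⟩
    · exact Cfsg.Agent.H801.Ore.good_even hB hg hdet hm hst h2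
    · exact Cfsg.Agent.H984.OreFinal.good_odd hB hg hm hst h2
  · exact good_four hB hg hdet h2 hst hc1 hc2

end Cfsg.Agent.H950.War
end

-- part: H950/War/Pass
section
/-!
# S2453 for `PSU_n(q)`: order bound, passage to `PSU` (helper950)
-/

set_option autoImplicit false
set_option linter.unusedSectionVars false

namespace Cfsg.Agent.H950.War

open Cfsg Module Polynomial Cfsg.Agent.H951 Matrix Cfsg.Agent.H98.Ore
open Cfsg.Agent.ClassicalGeometry.PSUAutBasic (pr pr_surjective pr_eq_one_iff)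

universe u

variable {F : Type u} [Field F] [Fintype F] {q : ℕ}

/-! ### the order -/

/-- `q ^ (i+1) - (-1) ^ (i+1)` -/
def ph (q i : ℕ) : ℕ := if Even i then q ^ (i + 1) + 1 else q ^ (i + 1) - 1

theorem prod_odd {q : ℕ} (hq : 2 ≤ q) (k : ℕ) :
    ∏ i ∈ Finset.range (2 * k + 1), ph q i ≤ (q + 1) * q ^ (2 * k ^ 2 + 3 * k) := by
  induction k with
  | zero => simp only [ph, _root_.MulZeroClass.mul_zero, _root_.zero_add, _root_.Finset.range_one, _root_.Finset.prod_singleton, _root_.Even.zero, ↓ _root_.reduceIte, _root_.pow_one, _root_.ne_eq, _root_.OfNat.ofNat_ne_zero, _root_.not_false_eq_true, _root_.zero_pow, _root_.add_zero, _root_.pow_zero, _root_.mul_one, _root_.Std.le_refl]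
  | succ k ih =>
    rw [show 2 * (k + 1) + 1 = 2 * k + 1 + 1 + 1 by ring, Finset.prod_range_succ, Finset.prod_range_succ]
    have h1 : ph q (2 * k + 1) = q ^ (2 * k + 2) - 1 := by
      unfold ph
      rw [if_neg (by rw [Nat.not_even_iff_odd]; exact ⟨k, rfl⟩)]
    have h2 : ph q (2 * k + 1 + 1) = q ^ (2 * k + 3) + 1 := by
      unfold ph
      rw [if_pos ⟨k + 1, by ring⟩]
    have h3 : (q ^ (2 * k + 2) - 1) * (q ^ (2 * k + 3) + 1) ≤ q ^ (4 * k + 5) := by
      have e1 : 1 ≤ q ^ (2 * k + 2) := Nat.one_le_pow _ _ (by omega)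
      obtain ⟨a, ha⟩ : ∃ a, q ^ (2 * k + 2) = a + 1 := ⟨q ^ (2 * k + 2) - 1, by omega⟩
      have e2 : q ^ (2 * k + 3) = (a + 1) * q := by rw [← ha, ← pow_succ]
      have e3 : q ^ (4 * k + 5) = (a + 1) * ((a + 1) * q) := by
        rw [← e2, ← ha, ← pow_add]; congr 1; ring
      rw [ha, e2, e3, Nat.add_sub_cancel]
      nlinarith only [hq]
    calc (∏ i ∈ Finset.range (2 * k + 1), ph q i) * ph q (2 * k + 1) * ph q (2 * k + 1 + 1)
        ≤ (q + 1) * q ^ (2 * k ^ 2 + 3 * k) * q ^ (4 * k + 5) := by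
          rw [mul_assoc, h1, h2]
          exact Nat.mul_le_mul ih h3
      _ = (q + 1) * q ^ (2 * (k + 1) ^ 2 + 3 * (k + 1)) := by
          rw [mul_assoc, ← pow_add]; congr 2; ring

theorem prod_le {q : ℕ} (hq : 2 ≤ q) {n : ℕ} (hn : 1 ≤ n) :
    ∏ i ∈ Finset.range n, ph q i ≤ (q + 1) * q ^ (n * (n + 1) / 2 - 1) := by
  rcases Nat.even_or_odd' n with ⟨k, rfl | rfl⟩
  · obtain ⟨k, rfl⟩ : ∃ j, k = j + 1 := ⟨k - 1, by omega⟩
    rw [show 2 * (k + 1) = 2 * k + 1 + 1 by ring, Finset.prod_range_succ]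
    have h1 : ph q (2 * k + 1) ≤ q ^ (2 * k + 2) := by
      unfold ph
      rw [if_neg (by rw [Nat.not_even_iff_odd]; exact ⟨k, rfl⟩)]
      exact Nat.sub_le _ _
    refine (Nat.mul_le_mul (prod_odd hq k) h1).trans ?_
    have e : (2 * k + 1 + 1) * (2 * k + 1 + 1 + 1) = (2 * k ^ 2 + 3 * k + (2 * k + 2) + 1) * 2 := by ring
    rw [e, Nat.mul_div_cancel _ (by norm_num), Nat.add_sub_cancel, mul_assoc, ← pow_add]
  · refine (prod_odd hq k).trans ?_
    have e : (2 * k + 1) * (2 * k + 1 + 1) = (2 * k ^ 2 + 3 * k + 1) * 2 := by ring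
    rw [e, Nat.mul_div_cancel _ (by norm_num), Nat.add_sub_cancel]

theorem card_SU_le (hF : Fintype.card F = q ^ 2) {n : ℕ} (hn : 1 ≤ n) : Nat.card (SU n F q) ≤ q ^ (n ^ 2) := by
  have hq := LieClassical.HermBasic.two_le hF
  have h1 := Cfsg.Agent.S0278.result hF n hn
  have h2 : (q + 1) * Nat.card (SU n F q) ≤ (q + 1) * q ^ (n ^ 2) := by
    rw [h1]
    have h3 : ∏ i ∈ Finset.range n, (if Even i then q ^ (i + 1) + 1 else q ^ (i + 1) - 1) ≤
        (q + 1) * q ^ (n * (n + 1) / 2 - 1) := prod_le hq hn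
    refine (Nat.mul_le_mul_left _ h3).trans ?_
    rw [mul_left_comm, ← pow_add]
    refine Nat.mul_le_mul_left _ (Nat.pow_le_pow_right (by omega) ?_)
    have e1 : n * (n - 1) / 2 + n * (n + 1) / 2 = n ^ 2 := by
      obtain ⟨m, rfl⟩ : ∃ m, n = m + 1 := ⟨n - 1, by omega⟩
      rw [Nat.add_sub_cancel]
      have e : (m + 1) * (m + 1 + 1) = (m + 1) * m + (m + 1) * 2 := by ring
      rw [e, Nat.add_mul_div_right _ _ (by norm_num)]
      have e2 : 2 ∣ (m + 1) * m := by
        rw [mul_comm]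
        exact (Nat.even_mul_succ_self m).two_dvd
      obtain ⟨k, hk⟩ := e2
      rw [hk, Nat.mul_div_cancel_left _ (by norm_num)]
      have e3 : (m + 1) ^ 2 = (m + 1) * m + (m + 1) := by ring
      rw [e3, hk]; ring
    omega
  exact Nat.le_of_mul_le_mul_left h2 (by omega)

theorem card_PSU_le (hF : Fintype.card F = q ^ 2) {n : ℕ} (hn : 1 ≤ n) : Nat.card (PSU n F q) ≤ q ^ (n ^ 2) :=
  (Nat.card_le_card_of_surjective _ (pr_surjective (n := n) (F := F) (q := q))).trans (card_SU_le hF hn)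

/-! ### passage to `PSU` -/

theorem hs_herm (hF : Fintype.card F = q ^ 2) (n : ℕ) : HS q (Cfsg.Agent.H950.cj hF) (hermForm n F q) :=
  ⟨hF, Cfsg.Agent.H950.cj_apply hF, Cfsg.Agent.H950.frm_herm hF n,
    fun _ hu => Cfsg.Agent.LieClassical.HermBasic.herm_nondeg hF hu⟩

/-- `SU_n(q)` acting on the space -/
def psi (n : ℕ) (F : Type u) [Field F] [Fintype F] (q : ℕ) : SU n F q →* ((Fin n → F) ≃ₗ[F] (Fin n → F)) :=
  (Matrix.SpecialLinearGroup.toLin' (n := Fin n) (R := F)).comp (SU n F q).subtype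

theorem psi_injective (n : ℕ) : Function.Injective (psi n F q) := by
  intro a b h
  exact Subtype.ext (Matrix.SpecialLinearGroup.toLin'_injective h)

theorem psi_mem {n : ℕ} (g : SU n F q) : psi n F q g ∈ SGr (hermForm n F q) := by
  rw [mem_SGr]
  constructor
  · intro u v
    exact Cfsg.Agent.H950.isom_of_SU g.2 u v
  · show LinearMap.det (Matrix.toLin' ((g : Matrix.SpecialLinearGroup (Fin n) F) : Matrix (Fin n) (Fin n) F)) = 1
    rw [LinearMap.det_toLin']
    exact g.1.2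

theorem exists_psi {n : ℕ} {x : (Fin n → F) ≃ₗ[F] (Fin n → F)} (hx : x ∈ SGr (hermForm n F q)) :
    ∃ g : SU n F q, psi n F q g = x := by
  obtain ⟨h1, h2⟩ := mem_SGr.1 hx
  let y₀ : Matrix.SpecialLinearGroup (Fin n) F := ⟨LinearMap.toMatrix' (x : End F (Fin n → F)), by
    rw [LinearMap.det_toMatrix', h2]⟩
  have h3 : Matrix.toLin' (y₀ : Matrix (Fin n) (Fin n) F) = (x : End F (Fin n → F)) := Matrix.toLin'_toMatrix' _
  refine ⟨⟨y₀, Cfsg.Agent.H950.mem_SU_of_isom (by rw [h3]; exact h1)⟩, ?_⟩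
  apply LinearEquiv.toLinearMap_injective
  exact h3

theorem mem_center_of_scalar {n : ℕ} {g : SU n F q} {c : F}
    (h : ((psi n F q g : (Fin n → F) ≃ₗ[F] (Fin n → F)) : End F (Fin n → F)) = c • (1 : End F (Fin n → F))) :
    g ∈ Subgroup.center (SU n F q) := by
  rw [Subgroup.mem_center_iff]
  intro k
  apply psi_injective n
  rw [map_mul, map_mul]
  apply LinearEquiv.ext
  intro v
  rw [LinearEquiv.mul_apply, LinearEquiv.mul_apply]
  have h1 : ∀ v, psi n F q g v = c • v := fun v => by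
    have := congrFun (congrArg DFunLike.coe h) v
    exact this
  rw [h1, h1, map_smul]

open Cfsg.Agent.H130.War in
theorem ss_of_W {n p e N : ℕ} (hN : N.Coprime p)
    (h : ∀ g : (Fin n → F) ≃ₗ[F] (Fin n → F), g ∈ SGr (hermForm n F q) →
      (∀ c : F, (g : End F (Fin n → F)) ≠ c • (1 : End F (Fin n → F))) → W (hermForm n F q) e N g) :
    SS p e (PSU n F q) := by
  refine SS.of_lift (f := pr n F q) fun t => ?_
  obtain ⟨g, rfl⟩ := pr_surjective t
  by_cases hs : ∀ c : F, ((psi n F q g : (Fin n → F) ≃ₗ[F] (Fin n → F)) : End F (Fin n → F)) ≠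
      c • (1 : End F (Fin n → F))
  · obtain ⟨x, hx, y, hy, hxy, hxN, hyN⟩ := h _ (psi_mem g) hs
    obtain ⟨a, rfl⟩ := exists_psi hx
    obtain ⟨b, rfl⟩ := exists_psi hy
    have hinj := psi_injective (F := F) (q := q) n
    refine ⟨g, rfl, a, b, ?_, ?_, ?_⟩
    · apply hinj
      rw [hxy, map_mul, map_pow, map_pow]
    · apply Nat.Coprime.coprime_dvd_left _ hN
      apply orderOf_dvd_of_pow_eq_one
      apply hinj
      rw [map_pow, hxN, map_one]
    · apply Nat.Coprime.coprime_dvd_left _ hN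
      apply orderOf_dvd_of_pow_eq_one
      apply hinj
      rw [map_pow, hyN, map_one]
  · push Not at hs
    obtain ⟨c, hc⟩ := hs
    refine ⟨1, ?_, 1, 1, ?_, ?_, ?_⟩
    · rw [map_one]
      exact (pr_eq_one_iff.2 (mem_center_of_scalar hc)).symm
    · rw [one_pow, one_mul]
    · rw [orderOf_one]; exact Nat.coprime_one_left p
    · rw [orderOf_one]; exact Nat.coprime_one_left p

/-- `q` is divisible by the characteristic -/
theorem dvd_q (hF : Fintype.card F = q ^ 2) {p : ℕ} (hp : p.Prime) [CharP F p] : p ∣ q := by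
  have : Fact p.Prime := ⟨hp⟩
  obtain ⟨a, -, ha⟩ := FiniteField.card F p
  rw [hF] at ha
  have h1 : p ∣ q ^ 2 := by rw [ha]; exact dvd_pow_self p a.2.ne'
  exact hp.dvd_of_dvd_pow h1

theorem coprime_N (hF : Fintype.card F = q ^ 2) {p : ℕ} (hp : p.Prime) [CharP F p] {j : ℕ} (hj : 1 ≤ j) :
    (q ^ j - 1).Coprime p := by
  have h1 := dvd_q (p := p) hF hp
  have hq := LieClassical.HermBasic.two_le hF
  have h2 : 1 ≤ q ^ j := Nat.one_le_pow _ _ (by omega)
  rw [Nat.coprime_comm, Nat.Prime.coprime_iff_not_dvd hp]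
  intro h3
  have h4 : p ∣ q ^ j := dvd_pow h1 (by omega)
  have h5 : p ∣ 1 := by
    have := Nat.dvd_sub h4 h3
    rwa [Nat.sub_sub_self h2] at this
  exact hp.one_lt.ne' (Nat.dvd_one.1 h5)

end Cfsg.Agent.H950.War
end

-- part: H43/W53/Cls
section
/-!
# S2453, row `PSU_n(q)`: the class of `x ^ e`

`F` has `q²` elements, `2 * (e * (q + 1)) < q ^ m`, `m ≥ 2`.  There is an irreducible `f` of degree `m`, coprime to its
`σ`-reverse, not fixed by the nontrivial root scalings by elements of norm one, such that every matrix `X` with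
characteristic polynomial `f` is `Z ^ e` with `det Z` fixed by `σ` and `Z ^ (q ^ (2 m) - 1) = 1`.
-/

set_option autoImplicit false
namespace Cfsg.Agent.H43.W53
open Module Polynomial Matrix Cfsg.Agent.H117.OrePoly Cfsg.Agent.H950.War

section arith

theorem c1 {q m d N e : ℕ} (hq : 2 ≤ q) (hd : 0 < d) (hdm : 2 * d ≤ m)
    (hN : N * (q + 1) = (q ^ 2) ^ m - 1) (he : 0 < e) (hb : 2 * (e * (q + 1)) < q ^ m)
    (h : N ∣ e * ((q ^ 2) ^ d - 1)) : False := by
  have h4 : 1 < (q ^ 2) ^ d := Nat.one_lt_pow hd.ne' (by nlinarith only [hq])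
  have h1 : N ≤ e * ((q ^ 2) ^ d - 1) := Nat.le_of_dvd (Nat.mul_pos he (by omega)) h
  have h2 : (q ^ 2) ^ d ≤ q ^ m := by
    rw [← pow_mul]; exact Nat.pow_le_pow_right (by omega) hdm
  have h3 : (q ^ 2) ^ m = q ^ m * q ^ m := by rw [← pow_mul, two_mul, pow_add]
  obtain ⟨x, hx⟩ : ∃ x, q ^ m = x + 1 := ⟨q ^ m - 1, by omega⟩
  have h5 : (q ^ 2) ^ m - 1 = x * (x + 2) := by
    rw [h3, hx]
    have : (x + 1) * (x + 1) = x * (x + 2) + 1 := by ring
    omega
  rw [h5] at hN
  have h6 : x * (x + 2) ≤ x * (e * (q + 1)) := by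
    calc x * (x + 2) = N * (q + 1) := hN.symm
      _ ≤ (e * ((q ^ 2) ^ d - 1)) * (q + 1) := Nat.mul_le_mul_right _ h1
      _ ≤ (e * x) * (q + 1) := Nat.mul_le_mul_right _ (Nat.mul_le_mul_left _ (by omega))
      _ = x * (e * (q + 1)) := by ring
  have h7 : 0 < x := by
    have : 0 < e * (q + 1) := Nat.mul_pos he (by omega)
    omega
  have h8 := Nat.le_of_mul_le_mul_left h6 h7
  omega

theorem c2a {q m i N e : ℕ} (hq : 2 ≤ q) (hem : i ≤ m)
    (hN : N * (q + 1) = (q ^ 2) ^ m - 1) (he : 0 < e) (hb : 2 * (e * (q + 1)) < q ^ m)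
    (h : N ∣ e * (q ^ i + 1)) : False := by
  have h1 : N ≤ e * (q ^ i + 1) := Nat.le_of_dvd (Nat.mul_pos he (by omega)) h
  have h2 : q ^ i ≤ q ^ m := Nat.pow_le_pow_right (by omega) hem
  have h3 : (q ^ 2) ^ m = q ^ m * q ^ m := by rw [← pow_mul, two_mul, pow_add]
  have hpos : 0 < e * (q + 1) := Nat.mul_pos he (by omega)
  obtain ⟨x, hx⟩ : ∃ x, q ^ m = x + 1 := ⟨q ^ m - 1, by omega⟩
  have h5 : (q ^ 2) ^ m - 1 = x * (x + 2) := by
    rw [h3, hx]
    have : (x + 1) * (x + 1) = x * (x + 2) + 1 := by ring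
    omega
  rw [h5] at hN
  have h6 : (x + 2) * x ≤ (x + 2) * (e * (q + 1)) := by
    calc (x + 2) * x = N * (q + 1) := by rw [hN]; ring
      _ ≤ (e * (q ^ i + 1)) * (q + 1) := Nat.mul_le_mul_right _ h1
      _ ≤ (e * (x + 2)) * (q + 1) := Nat.mul_le_mul_right _ (Nat.mul_le_mul_left _ (by omega))
      _ = (x + 2) * (e * (q + 1)) := by ring
  have h8 := Nat.le_of_mul_le_mul_left h6 (by omega)
  omega

theorem c2 {q m j N e : ℕ} (hq : 2 ≤ q) (hj : j < m)
    (hN : N * (q + 1) = (q ^ 2) ^ m - 1) (he : 0 < e) (hb : 2 * (e * (q + 1)) < q ^ m)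
    (h : N ∣ e * ((q ^ 2) ^ j * q + 1)) : False := by
  have h0 : (q ^ 2) ^ j * q = q ^ (2 * j + 1) := by rw [← pow_mul, pow_succ]
  rw [h0] at h
  rcases Nat.lt_or_ge m (2 * j + 1) with hlt | hge
  · refine c2a (i := 2 * m - (2 * j + 1)) hq (by omega) hN he hb ?_
    have h1 : q ^ (2 * m - (2 * j + 1)) * (q ^ (2 * j + 1) + 1)
        = ((q ^ 2) ^ m - 1) + (q ^ (2 * m - (2 * j + 1)) + 1) := by
      have : 1 ≤ (q ^ 2) ^ m := Nat.one_le_pow _ _ (by positivity)
      rw [mul_add, ← pow_add, show 2 * m - (2 * j + 1) + (2 * j + 1) = 2 * m by omega, pow_mul]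
      omega
    have h2 : N ∣ e * ((q ^ 2) ^ m - 1) := Dvd.dvd.mul_left ⟨q + 1, hN.symm⟩ _
    have h3 : e * (q ^ (2 * m - (2 * j + 1)) * (q ^ (2 * j + 1) + 1)) =
        e * ((q ^ 2) ^ m - 1) + e * (q ^ (2 * m - (2 * j + 1)) + 1) := by rw [h1, mul_add]
    have h4 : N ∣ e * (q ^ (2 * m - (2 * j + 1)) * (q ^ (2 * j + 1) + 1)) := by
      have : e * (q ^ (2 * m - (2 * j + 1)) * (q ^ (2 * j + 1) + 1)) =
        q ^ (2 * m - (2 * j + 1)) * (e * (q ^ (2 * j + 1) + 1)) := by ring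
      rw [this]
      exact Dvd.dvd.mul_left h _
    exact (Nat.dvd_add_right h2).1 (h3 ▸ h4)
  · exact c2a hq hge hN he hb h

theorem two_pow_ge (c : ℕ) : c + 2 ≤ 2 * 2 ^ c := by
  induction c with
  | zero => norm_num
  | succ c ih => rw [pow_succ]; omega

/-- `d ≥ 2`, `g * d ≤ m` -/
theorem c3 {q m g d N e : ℕ} (hq : 2 ≤ q) (hg : 0 < g) (hd : 2 ≤ d) (hgd : g * d ≤ m)
    (hN : N * (q + 1) = (q ^ 2) ^ m - 1) (he : 0 < e) (hb : 2 * (e * (q + 1)) < q ^ m)
    (h : N ∣ e * (d * ((q ^ 2) ^ g - 1))) : False := by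
  have h4 : 1 < (q ^ 2) ^ g := Nat.one_lt_pow hg.ne' (by nlinarith only [hq])
  have h1 : N ≤ e * (d * ((q ^ 2) ^ g - 1)) :=
    Nat.le_of_dvd (Nat.mul_pos he (Nat.mul_pos (by omega) (by omega))) h
  have h3 : (q ^ 2) ^ m = q ^ m * q ^ m := by rw [← pow_mul, two_mul, pow_add]
  have hpos : 0 < e * (q + 1) := Nat.mul_pos he (by omega)
  obtain ⟨x, hx⟩ : ∃ x, q ^ m = x + 1 := ⟨q ^ m - 1, by omega⟩
  obtain ⟨y, hy⟩ : ∃ y, (q ^ 2) ^ g = y + 1 := ⟨(q ^ 2) ^ g - 1, by omega⟩
  -- d y ≤ 2 x + 2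
  have h6 : d * (y + 1) ≤ 2 * (x + 1) := by
    rw [← hy, ← hx]
    obtain ⟨c, rfl⟩ : ∃ c, d = c + 2 := ⟨d - 2, by omega⟩
    have e1 : q ^ (g * (c + 2)) ≤ q ^ m := Nat.pow_le_pow_right (by omega) hgd
    have e2 : q ^ (g * (c + 2)) = (q ^ 2) ^ g * q ^ (g * c) := by
      rw [← pow_mul, ← pow_add]; congr 1; ring
    have e3 : 2 ^ c ≤ q ^ (g * c) :=
      (Nat.pow_le_pow_left hq c).trans (Nat.pow_le_pow_right (by omega) (Nat.le_mul_of_pos_left c hg))
    have e4 : c + 2 ≤ 2 * 2 ^ c := two_pow_ge c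
    calc (c + 2) * (q ^ 2) ^ g ≤ (2 * 2 ^ c) * (q ^ 2) ^ g := Nat.mul_le_mul_right _ e4
      _ ≤ (2 * q ^ (g * c)) * (q ^ 2) ^ g := Nat.mul_le_mul_right _ (Nat.mul_le_mul_left _ e3)
      _ = 2 * ((q ^ 2) ^ g * q ^ (g * c)) := by ring
      _ ≤ 2 * q ^ m := by rw [← e2]; exact Nat.mul_le_mul_left _ e1
  have h5 : (q ^ 2) ^ m - 1 = x * (x + 2) := by
    rw [h3, hx]
    have : (x + 1) * (x + 1) = x * (x + 2) + 1 := by ring
    omega
  rw [h5] at hN
  rw [hy] at h1
  simp only [Nat.add_sub_cancel] at h1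
  rw [hx] at hb
  have hy0 : 0 < y := by omega
  have hx0 : 0 < x := by omega
  -- x (x + 2) ≤ e (q + 1) d y, 2 e (q + 1) ≤ x, d y ≤ 2 x + 2 - d < 2 (x + 2)
  have h7 : x * (x + 2) ≤ (e * (q + 1)) * (d * y) := by
    calc x * (x + 2) = N * (q + 1) := hN.symm
      _ ≤ (e * (d * y)) * (q + 1) := Nat.mul_le_mul_right _ h1
      _ = (e * (q + 1)) * (d * y) := by ring
  have h8 : 2 * ((e * (q + 1)) * (d * y)) ≤ x * (d * y) := by
    rw [← mul_assoc]; exact Nat.mul_le_mul_right _ (by omega)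
  have h9 : d * y < 2 * (x + 2) := by
    have : d * (y + 1) = d * y + d := by ring
    omega
  have h10 : x * (d * y) < x * (2 * (x + 2)) := Nat.mul_lt_mul_of_pos_left h9 hx0
  have h11 : x * (2 * (x + 2)) = 2 * (x * (x + 2)) := by ring
  omega

end arith

section fld

/-- **The polynomial.** -/
theorem exists_pw {F : Type*} [Field F] [Fintype F] {q : ℕ} (hF : Fintype.card F = q ^ 2) (σ : F →+* F)
    (hσ : ∀ a, σ a = a ^ q) {m e : ℕ} (hm : 2 ≤ m) (he : 1 ≤ e) (hb : 2 * (e * (q + 1)) < q ^ m) :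
    ∃ f : F[X], PW q σ m e f := by
  classical
  have hq : 2 ≤ q := by
    have h1 : 1 < Fintype.card F := Fintype.one_lt_card
    rw [hF] at h1
    by_contra hcon
    interval_cases q <;> simp at h1
  obtain ⟨p, hp⟩ := CharP.exists F
  obtain ⟨n, hpp, hcard⟩ := FiniteField.card F p
  have : Fact p.Prime := ⟨hpp⟩
  have : NeZero m := ⟨by omega⟩
  obtain ⟨k, -, hk⟩ : ∃ k ≤ (n : ℕ), q = p ^ k :=
    (Nat.dvd_prime_pow hpp).1 (by rw [← hcard, hF]; exact dvd_pow_self _ (by norm_num))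
  set E := FiniteField.Extension F p m with hE
  have hEcard : Nat.card E = (q ^ 2) ^ m := by
    rw [hE, FiniteField.natCard_extension, Nat.card_eq_fintype_card, hF]
  have hEfin : finrank F E = m := FiniteField.finrank_extension F p m
  have : FiniteDimensional F E := inferInstance
  have : CharP E p := charP_of_injective_algebraMap (algebraMap F E).injective p
  have hQm1 : 1 < (q ^ 2) ^ m := Nat.one_lt_pow (by omega) (by nlinarith only [hq])
  -- the generator
  obtain ⟨η, hη⟩ := IsCyclic.exists_generator (α := Eˣ)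
  have hηord : orderOf η = (q ^ 2) ^ m - 1 := by
    rw [orderOf_eq_card_of_forall_mem_zpowers hη, Nat.card_units, hEcard]
  have hdvd : q + 1 ∣ (q ^ 2) ^ m - 1 := by
    have h1 : q ^ 2 - 1 ∣ (q ^ 2) ^ m - 1 := by
      simpa only [_root_.one_pow] using Nat.sub_dvd_pow_sub_pow (q ^ 2) 1 m
    refine dvd_trans ⟨q - 1, ?_⟩ h1
    obtain ⟨r, rfl⟩ : ∃ r, q = r + 1 := ⟨q - 1, by omega⟩
    have : (r + 1) ^ 2 = (r + 1 + 1) * r + 1 := by ring
    rw [this]; simp only [_root_.add_tsub_cancel_right]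
  obtain ⟨N, hN'⟩ := hdvd
  have hN : N * (q + 1) = (q ^ 2) ^ m - 1 := by rw [hN', mul_comm]
  have hN0 : 0 < N := by
    rcases Nat.eq_zero_or_pos N with h0 | h0
    · rw [h0] at hN; omega
    · exact h0
  have hξord : orderOf ((η ^ (q + 1) : Eˣ) : E) = N := by
    rw [orderOf_units, orderOf_pow, hηord, hN', Nat.gcd_mul_right_left, Nat.mul_div_cancel_left _ (by omega)]
  set ξ : E := ((η ^ (q + 1) : Eˣ) : E) with hξ
  have hξ0 : ξ ≠ 0 := Units.ne_zero _
  have hξη : ξ = (η : E) ^ (q + 1) := by rw [hξ, Units.val_pow_eq_pow_val]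
  set ζ : E := ξ ^ e with hζ
  have hζ0 : ζ ≠ 0 := pow_ne_zero _ hξ0
  have hord : ∀ k : ℕ, ζ ^ k = 1 ↔ N ∣ e * k := fun k => by
    rw [hζ, ← pow_mul, ← hξord, orderOf_dvd_iff_pow_eq_one]
  have hint : IsIntegral F ζ := Algebra.IsIntegral.isIntegral ζ
  -- the degree
  have hdeg : (minpoly F ζ).natDegree = m := by
    set K := IntermediateField.adjoin F {ζ} with hK
    have h1 : finrank F K = (minpoly F ζ).natDegree := IntermediateField.adjoin.finrank hint
    have h2 : finrank F K * finrank K E = m := by rw [finrank_mul_finrank, hEfin]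
    have h3 : Nat.card K = (q ^ 2) ^ finrank F K := by
      rw [Module.natCard_eq_pow_finrank (K := F), Nat.card_eq_fintype_card, hF]
    have h4 : N ∣ e * ((q ^ 2) ^ finrank F K - 1) := by
      rw [← hord, ← h3]
      have := Fintype.ofFinite K
      have h5 : (⟨ζ, IntermediateField.mem_adjoin_simple_self F ζ⟩ : K) ^ (Nat.card K - 1) = 1 := by
        rw [Nat.card_eq_fintype_card]
        exact FiniteField.pow_card_sub_one_eq_one _ (by
          intro h; exact hζ0 (congrArg Subtype.val h))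
      exact congrArg Subtype.val h5
    have h5 : 0 < finrank F K := finrank_pos
    rw [← h1]
    by_contra hne
    have h6 : 2 ≤ finrank K E := by
      have h7 : 0 < finrank K E := finrank_pos
      rcases Nat.lt_or_ge (finrank K E) 2 with h8 | h8
      · have h9 : finrank K E = 1 := by omega
        rw [h9, mul_one] at h2
        exact absurd h2 hne
      · exact h8
    refine c1 (m := m) hq h5 ?_ hN he hb h4
    calc 2 * finrank F K = finrank F K * 2 := mul_comm _ _
      _ ≤ finrank F K * finrank K E := Nat.mul_le_mul_left _ h6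
      _ = m := h2
  -- the roots
  have hroot : ∀ θ : E, aeval θ (minpoly F ζ) = 0 → ∃ j < m, θ = ζ ^ (q ^ 2) ^ j := by
    intro θ hθ
    obtain ⟨τ, hτ⟩ := minpoly.exists_algEquiv_of_root' (hint.isAlgebraic) hθ
    obtain ⟨i, hi, hiτ⟩ := FiniteField.Extension.exists_frob_pow_eq F p m τ
    refine ⟨i, hi, ?_⟩
    rw [← hτ, ← hiτ, FiniteField.Extension.frob_iterate_apply, Nat.card_eq_fintype_card, hF]
  -- elements a ^ (q + 1)
  have hfix : ∀ a : F, σ (a ^ (q + 1)) = a ^ (q + 1) := by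
    intro a
    have h1 : a ^ q ^ 2 = a := by rw [← hF]; exact FiniteField.pow_card a
    rw [hσ, ← pow_mul, show (q + 1) * q = q ^ 2 + q by ring, pow_add, h1, pow_succ, mul_comm]
  refine ⟨minpoly F ζ, minpoly.irreducible hint, minpoly.monic hint, hdeg, ?_, ?_, ?_, ?_⟩
  · -- the constant term
    have h1 := coeff_zero_eq (F := F) (x := ζ) (by rw [hdeg, hEfin])
    have h3 : σ (Algebra.norm F ζ) = Algebra.norm F ζ := by
      have : Algebra.norm F ζ = ((Algebra.norm F (η : E)) ^ e) ^ (q + 1) := by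
        rw [hζ, hξη, map_pow, map_pow, ← pow_mul, ← pow_mul, mul_comm]
      rw [this, hfix]
    rw [h1, map_mul, map_pow, map_neg, map_one] at h3
    exact mul_left_cancel₀ (pow_ne_zero _ (neg_ne_zero.2 one_ne_zero)) h3
  · -- coprime to the reverse
    rw [(minpoly.irreducible hint).coprime_iff_not_dvd]
    intro hdv
    have h1 : aeval ζ (((minpoly F ζ).map σ).reverse) = 0 := by
      obtain ⟨g, hg⟩ := hdv
      rw [hg, map_mul, minpoly.aeval, zero_mul]
    let _ : Invertible (ζ⁻¹) := invertibleOfNonzero (inv_ne_zero hζ0)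
    have h2 : aeval ζ⁻¹ ((minpoly F ζ).map σ) = 0 := by
      have h3 := eval₂_reverse_eq_zero_iff (algebraMap F E) ζ⁻¹ ((minpoly F ζ).map σ)
      rw [invOf_eq_inv, inv_inv] at h3
      exact h3.1 h1
    let φ : E →+* E := iterateFrobenius E p k
    have hφ : ∀ x, φ x = x ^ q := fun x => by rw [hk]; exact iterateFrobenius_def p k x
    have hcomp : (algebraMap F E).comp σ = φ.comp (algebraMap F E) := by
      ext a
      simp [hφ, hσ]
    obtain ⟨θ, hθ⟩ : ∃ θ, φ θ = ζ⁻¹ := (Finite.injective_iff_surjective.1 φ.injective) _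
    have h4 : aeval θ (minpoly F ζ) = 0 := by
      apply φ.injective
      rw [map_zero, ← h2, aeval_def, aeval_def, eval₂_map, hcomp, ← hθ, hom_eval₂]
    obtain ⟨j, hj, hjθ⟩ := hroot θ h4
    have h5 : ζ ^ ((q ^ 2) ^ j * q + 1) = 1 := by
      rw [pow_succ, pow_mul, ← hjθ, ← hφ, hθ, inv_mul_cancel₀ hζ0]
    exact c2 hq hj hN he hb ((hord _).1 h5)
  · -- scaling
    intro l hl hlm hl1 hcon
    have h1 := scaleRoots_aeval_eq_zero (R := F) (A := E) (p := minpoly F ζ) (a := ζ) (r := l)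
      (minpoly.aeval F ζ)
    rw [hcon] at h1
    obtain ⟨j, hj, hjl⟩ := hroot _ h1
    have hpos : 1 ≤ (q ^ 2) ^ j := Nat.one_le_pow _ _ (by positivity)
    have h2 : algebraMap F E l = ζ ^ ((q ^ 2) ^ j - 1) := by
      apply mul_right_cancel₀ hζ0
      rw [hjl, ← pow_succ, Nat.sub_add_cancel hpos]
    rcases Nat.eq_zero_or_pos j with h0 | h0
    · apply hl1
      apply (algebraMap F E).injective
      rw [h2, h0, map_one]; simp
    obtain ⟨d, hd⟩ : ∃ d, d = orderOf l := ⟨_, rfl⟩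
    have hd0 : 0 < d := by
      rw [hd]
      exact orderOf_pos_iff.2 (isOfFinOrder_iff_pow_eq_one.2 ⟨q + 1, by omega, hl⟩)
    have hd1 : d ≠ 1 := by
      intro h
      rw [h] at hd
      exact hl1 (orderOf_eq_one_iff.1 hd.symm)
    have hld : l ^ d = 1 := by rw [hd]; exact pow_orderOf_eq_one l
    -- the powers of the Frobenius map
    have h3 : ∀ i : ℕ, ζ ^ (q ^ 2) ^ (j * i) = algebraMap F E l ^ i * ζ := by
      intro i
      induction i with
      | zero => simp
      | succ i ih =>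
        have h4 : algebraMap F E l ^ (q ^ 2) ^ j = algebraMap F E l := by
          rw [← map_pow, ← hF]
          congr 1
          exact FiniteField.pow_card_pow j l
        rw [mul_add, mul_one, pow_add, pow_mul, ih, mul_pow, ← pow_mul, mul_comm i, pow_mul, h4,
          ← hjl, ← mul_assoc, ← pow_succ]
    set g := Nat.gcd m j with hg
    have hg0 : 0 < g := Nat.gcd_pos_of_pos_right _ h0
    obtain ⟨r, hr⟩ : g ∣ m := Nat.gcd_dvd_left _ _
    obtain ⟨s, hs⟩ : g ∣ j := Nat.gcd_dvd_right _ _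
    have hjr : j * r = m * s := by
      have e1 : j * r = g * s * r := congrArg (· * r) hs
      have e2 : m * s = g * r * s := congrArg (· * s) hr
      rw [e1, e2]; ring
    have hdr : d ∣ r := by
      rw [hd]
      apply orderOf_dvd_of_pow_eq_one
      apply (algebraMap F E).injective
      rw [map_pow, map_one]
      apply mul_right_cancel₀ hζ0
      rw [← h3, one_mul, hjr]
      rw [pow_mul, ← hEcard]
      have := Fintype.ofFinite E
      rw [Nat.card_eq_fintype_card]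
      exact FiniteField.pow_card_pow s ζ
    have hr0 : 0 < r := by
      rcases Nat.eq_zero_or_pos r with h | h
      · rw [h] at hr; omega
      · exact h
    have hgd : g * d ≤ m := by
      rw [hr]
      exact Nat.mul_le_mul_left _ (Nat.le_of_dvd hr0 hdr)
    have h5 : N ∣ e * d * ((q ^ 2) ^ j - 1) := by
      have h6 : ζ ^ (((q ^ 2) ^ j - 1) * d) = 1 := by
        rw [pow_mul, ← h2, ← map_pow, hld, map_one]
      have h7 := (hord _).1 h6
      rwa [mul_comm _ d, ← mul_assoc] at h7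
    have h6 : N ∣ e * d * ((q ^ 2) ^ m - 1) := Dvd.dvd.mul_left ⟨q + 1, hN.symm⟩ _
    have h7 := Nat.dvd_gcd h6 h5
    rw [Nat.gcd_mul_left, Nat.pow_sub_one_gcd_pow_sub_one, ← hg, mul_assoc] at h7
    exact c3 hq hg0 (by omega) hgd hN he hb h7
  · -- roots of matrices
    intro ι _ _ Z hZ
    have htop : Algebra.adjoin F {ζ} = ⊤ := by
      have h1 : IntermediateField.adjoin F {ζ} = ⊤ := by
        apply IntermediateField.eq_of_le_of_finrank_eq le_top
        rw [IntermediateField.adjoin.finrank hint, hdeg, IntermediateField.finrank_top', hEfin]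
      rw [← IntermediateField.adjoin_simple_toSubalgebra_of_isAlgebraic hint.isAlgebraic, h1]
      rfl
    let pb := PowerBasis.ofAdjoinEqTop hint htop
    have hgen : pb.gen = ζ := PowerBasis.ofAdjoinEqTop_gen hint htop
    have hZ0 : aeval Z (minpoly F pb.gen) = 0 := by
      rw [hgen, ← hZ]
      exact Matrix.aeval_self_charpoly Z
    let Φ : E →ₐ[F] Matrix ι ι F := pb.lift Z hZ0
    have hΦ : Φ ζ = Z := by
      have := pb.lift_gen Z hZ0
      rwa [hgen] at this
    refine ⟨Φ ξ, ?_, ?_, ?_⟩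
    · rw [← map_pow, ← hζ, hΦ]
    · have : (Φ ξ).det = (Φ (η : E)).det ^ (q + 1) := by
        rw [hξη, map_pow, Matrix.det_pow]
      rw [this, hfix]
    · rw [← map_pow]
      have h1 : ξ ^ (q ^ (2 * m) - 1) = 1 := by
        rw [← orderOf_dvd_iff_pow_eq_one, hξord, pow_mul]
        exact ⟨q + 1, hN.symm⟩
      rw [h1, map_one]

end fld

end Cfsg.Agent.H43.W53
end

-- part: H43/W53/Num
section
/-!
# S2453, row `PSU_n(q)`: the numbers
-/

set_option autoImplicit false
namespace Cfsg.Agent.H43.W53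
open Polynomial Cfsg.Agent.H950.War

theorem big_pow {m : ℕ} (hm : 13 ≤ m) : 6 * (m + 5) < 2 ^ m := by
  induction m, hm using Nat.le_induction with
  | base => norm_num
  | succ m hm ih => rw [pow_succ]; omega

theorem numeric {n q M e : ℕ} (hn : 4 ≤ n) (hq : 2 ≤ q) (hM : 2 ≤ M) (he : 1 ≤ e)
    (hb : M ^ (8 * M ^ 2) ≤ q ^ n ^ 2) (h : e = 1 ∨ (6 ≤ M ∧ 2 * e ≤ M ^ 2)) :
    2 * (e * (q + 1)) < q ^ (n / 2) := by
  obtain ⟨m, hm⟩ : ∃ m, m = n / 2 := ⟨_, rfl⟩
  have hm2 : 2 ≤ m := by omega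
  rw [← hm]
  rcases h with rfl | ⟨hM6, h2e⟩
  · rw [one_mul]
    rcases hq.eq_or_lt with rfl | hq3
    · rcases hm2.eq_or_lt with h2 | hm3
      · exfalso
        have hn5 : n ≤ 5 := by omega
        have h1 : 2 ^ 32 ≤ M ^ (8 * M ^ 2) := by
          calc 2 ^ 32 = 2 ^ (8 * 2 ^ 2) := by norm_num
            _ ≤ M ^ (8 * 2 ^ 2) := Nat.pow_le_pow_left hM _
            _ ≤ M ^ (8 * M ^ 2) :=
              Nat.pow_le_pow_right (by omega) (Nat.mul_le_mul_left _ (Nat.pow_le_pow_left hM 2))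
        have h3 : 2 ^ n ^ 2 ≤ 2 ^ 25 := Nat.pow_le_pow_right (by norm_num)
          ((Nat.pow_le_pow_left hn5 2).trans (by norm_num))
        have h4 := (h1.trans hb).trans h3
        norm_num at h4
      · have : 2 ^ 3 ≤ 2 ^ m := Nat.pow_le_pow_right (by norm_num) hm3
        omega
    · have h1 : q ^ 2 ≤ q ^ m := Nat.pow_le_pow_right (by omega) hm2
      have h2 : 3 * q ≤ q ^ 2 := by rw [sq]; exact Nat.mul_le_mul_right _ hq3
      omega
  · by_contra hcon
    push Not at hcon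
    obtain ⟨T, hT⟩ : ∃ T, T = M ^ 2 := ⟨_, rfl⟩
    rw [← hT] at h2e
    have hT36 : 36 ≤ T := by rw [hT]; nlinarith only [hM6]
    obtain ⟨a, ha⟩ : ∃ a, a = q ^ (m - 1) := ⟨_, rfl⟩
    have hqa : q ^ m = q * a := by
      rw [ha, ← pow_succ']; congr 1; omega
    have h1 : q * a ≤ T * (q + 1) := by
      rw [← hqa]
      calc q ^ m ≤ 2 * (e * (q + 1)) := hcon
        _ = 2 * e * (q + 1) := by ring
        _ ≤ T * (q + 1) := Nat.mul_le_mul_right _ h2e
    have h2 : 2 * a ≤ 3 * T := by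
      have h3 : q * (2 * a) ≤ q * (3 * T) := by
        calc q * (2 * a) = 2 * (q * a) := by ring
          _ ≤ 2 * (T * (q + 1)) := Nat.mul_le_mul_left _ h1
          _ = T * (2 * q + 2) := by ring
          _ ≤ T * (3 * q) := Nat.mul_le_mul_left _ (by omega)
          _ = q * (3 * T) := by ring
      exact Nat.le_of_mul_le_mul_left h3 (by omega)
    have h4 : a ≤ T ^ 2 := by nlinarith only [he, h2e, h2]
    -- T ^ (4 T) ≤ a ^ (4 (m + 5)) ≤ T ^ (8 (m + 5))
    have h5 : T ^ (4 * T) ≤ T ^ (8 * (m + 5)) := by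
      calc T ^ (4 * T) = M ^ (8 * M ^ 2) := by
            rw [hT, ← pow_mul]; congr 1; ring
        _ ≤ q ^ n ^ 2 := hb
        _ ≤ q ^ ((m - 1) * (4 * (m + 5))) := by
            refine Nat.pow_le_pow_right (by omega) ?_
            have hn' : n ≤ 2 * m + 1 := by omega
            obtain ⟨c, rfl⟩ : ∃ c, m = c + 2 := ⟨m - 2, by omega⟩
            calc n ^ 2 ≤ (2 * (c + 2) + 1) ^ 2 := Nat.pow_le_pow_left hn' 2
              _ ≤ (c + 2 - 1) * (4 * (c + 2 + 5)) := by
                rw [show c + 2 - 1 = c + 1 by omega]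
                linarith only []
        _ = a ^ (4 * (m + 5)) := by rw [ha, ← pow_mul]
        _ ≤ (T ^ 2) ^ (4 * (m + 5)) := Nat.pow_le_pow_left h4 _
        _ = T ^ (8 * (m + 5)) := by rw [← pow_mul]; congr 1; ring
    have h6 : 4 * T ≤ 8 * (m + 5) := (Nat.pow_le_pow_iff_right (by omega)).1 h5
    have h7 : 2 ^ (m - 1) ≤ a := by rw [ha]; exact Nat.pow_le_pow_left hq _
    have h8 : 2 ^ m = 2 * 2 ^ (m - 1) := by rw [← pow_succ']; congr 1; omega
    have h9 := big_pow (m := m) (by omega)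
    omega

end Cfsg.Agent.H43.W53
end

-- part: H950/War/Row
section
/-!
# S2453: the row `PSU_n(q)`, `p ∣ k * l` (helper950)
-/

set_option autoImplicit false

namespace Cfsg.Agent.H950.War

open Cfsg Module Polynomial Cfsg.Agent.H951 Matrix Cfsg.Agent.H98.Ore Cfsg.Agent.H130.War

universe u

variable {F : Type u} [Field F] [Fintype F] {q : ℕ}

/-- `PSU_n(q)`, `n ≥ 4` : every element is `x ^ e * y ^ e` with `x`, `y` of order prime to `p` -/
theorem ss_psu (hF : Fintype.card F = q ^ 2) {n p e : ℕ} (hn : 4 ≤ n) (hp : p.Prime) [CharP F p] (he : 1 ≤ e)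
    (hb : 2 * (e * (q + 1)) < q ^ (n / 2)) : SS p e (PSU n F q) := by
  have hB := hs_herm hF n
  obtain ⟨f, hf⟩ := Cfsg.Agent.H43.W53.exists_pw hF (Cfsg.Agent.H950.cj hF) (Cfsg.Agent.H950.cj_apply hF)
    (m := n / 2) (e := e) (by omega) he hb
  have hfr : finrank F (Fin n → F) = n := Module.finrank_fin_fun F
  exact ss_of_W (coprime_N hF hp (j := 2 * (n / 2)) (by omega)) fun g hg hs =>
    W_of_not_scalar hB (by omega) he (by rw [hfr]; omega) hf hg hs

/-- the row, `n ≥ 4` -/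
theorem kl_psu_four (hF : Fintype.card F = q ^ 2) {n p k l : ℕ} (hn : 4 ≤ n) (hp : p.Prime) [CharP F p]
    (hk : 2 ≤ k) (hl : 2 ≤ l) (hg : ¬ k.Coprime l) (hd : p ∣ k ∨ p ∣ l)
    (hbig : (max k l) ^ (8 * (max k l) ^ 2) ≤ Nat.card (PSU n F q)) : Cfsg.Agent.H134.War.KL (PSU n F q) k l := by
  have hq := LieClassical.HermBasic.two_le hF
  have hM : 2 ≤ max k l := hk.trans (le_max_left _ _)
  have he : 1 ≤ ee p k l := by
    unfold ee
    exact Nat.ordCompl_pos p (Nat.lcm_ne_zero (by omega) (by omega))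
  apply SS.kl' (p := p)
  refine ss_psu hF hn hp he (Cfsg.Agent.H43.W53.numeric hn hq hM he (hbig.trans (card_PSU_le hF (by omega))) ?_)
  by_cases h5 : max k l ≤ 5
  · left; exact ee_eq_one hp hk hl hg h5 hd
  · right; exact ⟨by omega, ee_le (by omega) hg⟩

end Cfsg.Agent.H950.War
end

-- part: H43/W53/Three
section
/-!
# S2453, row `PSU_n(q)`: `n = 3`
-/

set_option autoImplicit false
namespace Cfsg.Agent.H43.W53
open Module Polynomial Cfsg.Agent.H951 Matrix Cfsg.Agent.H98.Ore Cfsg.Agent.H950.War Cfsg.Agent.H951.OreU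

theorem numeric3 {q M e : ℕ} (hM : 2 ≤ M) (he : 1 ≤ e) (hb : M ^ (8 * M ^ 2) ≤ q ^ 9)
    (h : e = 1 ∨ (6 ≤ M ∧ 2 * e ≤ M ^ 2)) : e + 1 < q := by
  rcases h with rfl | ⟨hM6, h2e⟩
  · by_contra hcon
    have hq : q ≤ 2 := by omega
    have h1 : 2 ^ 32 ≤ M ^ (8 * M ^ 2) := by
      calc 2 ^ 32 = 2 ^ (8 * 2 ^ 2) := by norm_num
        _ ≤ M ^ (8 * 2 ^ 2) := Nat.pow_le_pow_left hM _
        _ ≤ M ^ (8 * M ^ 2) :=
          Nat.pow_le_pow_right (by omega) (Nat.mul_le_mul_left _ (Nat.pow_le_pow_left hM 2))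
    have h3 := (h1.trans hb).trans (Nat.pow_le_pow_left hq 9)
    norm_num at h3
  · by_contra hcon
    obtain ⟨T, hT⟩ : ∃ T, T = M ^ 2 := ⟨_, rfl⟩
    rw [← hT] at h2e
    have hT36 : 36 ≤ T := by rw [hT]; nlinarith only [hM6]
    have h5 : T ^ (4 * T) ≤ T ^ 9 := by
      calc T ^ (4 * T) = M ^ (8 * M ^ 2) := by
            rw [hT, ← pow_mul]; congr 1; ring
        _ ≤ q ^ 9 := hb
        _ ≤ T ^ 9 := Nat.pow_le_pow_left (by omega) _
    have h6 : 4 * T ≤ 9 := (Nat.pow_le_pow_iff_right (by omega)).1 h5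
    omega

universe u v

variable {F : Type u} {V : Type v} [Field F] [Fintype F] [AddCommGroup V] [Module F V] [FiniteDimensional F V]
  {q : ℕ} {σ : F →+* F} {B : V → V → F}

/-- **`n = 3`.** -/
theorem W_three (hB : HS q σ B) {e : ℕ} (he : 1 ≤ e) (heq : e + 1 < q) (hn : finrank F V = 3) {g : V ≃ₗ[F] V}
    (hg : g ∈ SGr B) (hs : ∀ c : F, (g : End F V) ≠ c • (1 : End F V)) : W B e (q ^ 2 - 1) g := by
  have hgi : Isom B (g : End F V) := (mem_SGr.1 hg).1
  obtain ⟨w, hw, hgw⟩ := exists_typeI hB hgi hs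
  obtain ⟨U, g₁, b, h⟩ := exists_step hB hgi hw hgw
  obtain ⟨hU, hfr⟩ := Step.hs hB hgi h
  obtain ⟨R, -, hR⟩ := Cfsg.Agent.H24.Ore.cor_step_odd hB hgi h (κ := Empty) (P₁ := 0)
    (by rw [Fintype.card_empty]; omega)
    ⟨Empty.elim, Empty.elim, ⟨fun i => i.elim, fun i => i.elim, fun i => i.elim⟩, fun i => i.elim⟩ 1
  have hP : Matrix.fromBlocks (Matrix.of fun (_ _ : Unit) => (1 : F)) R 0 (0 : Matrix Empty Empty F) = 1 := by
    ext i j
    rcases i with i | i
    · rcases j with j | j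
      · rw [Matrix.fromBlocks_apply₁₁, Subsingleton.elim j i, Matrix.one_apply_eq]
        rfl
      · exact j.elim
    · exact i.elim
  rw [hP] at hR
  -- the generator
  obtain ⟨η, hη⟩ := IsCyclic.exists_generator (α := Fˣ)
  have hηord : orderOf η = q ^ 2 - 1 := by
    rw [orderOf_eq_card_of_forall_mem_zpowers hη, Nat.card_units, Nat.card_eq_fintype_card, hB.card]
  obtain ⟨x0, hx0⟩ : ∃ x0 : F, x0 = (η : F) := ⟨_, rfl⟩
  have hord : ∀ k : ℕ, x0 ^ k = 1 → q ^ 2 - 1 ∣ k := by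
    intro k hk
    rw [← hηord]
    apply orderOf_dvd_of_pow_eq_one
    apply Units.ext
    rw [Units.val_pow_eq_pow_val, ← hx0, hk, Units.val_one]
  have hx00 : x0 ≠ 0 := by rw [hx0]; exact η.ne_zero
  obtain ⟨x, hx⟩ : ∃ x, x = x0 ^ e := ⟨_, rfl⟩
  have hx1 : x ^ (q + 1) ≠ 1 := by
    rw [hx, ← pow_mul]
    intro h1
    have h2 := Nat.le_of_dvd (Nat.mul_pos he (by omega)) (hord _ h1)
    have h3 : q ^ 2 - 1 = (q - 1) * (q + 1) := by
      obtain ⟨r, rfl⟩ : ∃ r, q = r + 1 := ⟨q - 1, by omega⟩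
      have : (r + 1) ^ 2 = r * (r + 1 + 1) + 1 := by ring
      rw [this]; simp only [_root_.add_tsub_cancel_right]
    rw [h3] at h2
    have h4 := Nat.le_of_mul_le_mul_right h2 (by omega)
    omega
  have hxne : x ≠ 0 := by rw [hx]; exact pow_ne_zero _ hx00
  have hx2 : x ^ q ≠ x ^ 2 := by
    intro h1
    have h2 : x ^ (q - 2) = 1 := by
      apply mul_right_cancel₀ (pow_ne_zero 2 hxne)
      rw [← pow_add, one_mul, Nat.sub_add_cancel (by omega), h1]
    rw [hx, ← pow_mul] at h2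
    have h3 := Nat.le_of_dvd (Nat.mul_pos he (by omega)) (hord _ h2)
    have h4 : e * (q - 2) ≤ (q - 2) * (q - 2) := Nat.mul_le_mul_right _ (by omega)
    obtain ⟨r, rfl⟩ : ∃ r, q = r + 2 := ⟨q - 2, by omega⟩
    have h5 : (r + 2) ^ 2 - 1 = r * r + 4 * r + 3 := by
      have : (r + 2) ^ 2 = r * r + 4 * r + 4 := by ring
      omega
    rw [h5] at h3
    simp only [Nat.add_sub_cancel] at h3 h4
    omega
  have hσx : σ x ≠ 0 := (_root_.map_ne_zero σ).2 hxne
  have hpow : (Matrix.diagonal (fun _ : Unit ⊕ Empty => x0)) ^ e = Matrix.diagonal (fun _ : Unit ⊕ Empty => x) := by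
    rw [Matrix.diagonal_pow, hx]
    rfl
  have hdet : (Matrix.diagonal (fun _ : Unit ⊕ Empty => x)).det = x := by
    rw [Matrix.det_diagonal]; simp only [_root_.Finset.prod_const, _root_.Finset.card_univ, _root_.Fintype.card_sum, _root_.Fintype.card_unique, _root_.Fintype.card_eq_zero, _root_.add_zero, _root_.pow_one]
  have hdet0 : (Matrix.diagonal (fun _ : Unit ⊕ Empty => x0)).det = x0 := by
    rw [Matrix.det_diagonal]; simp only [_root_.Finset.prod_const, _root_.Finset.card_univ, _root_.Fintype.card_sum, _root_.Fintype.card_unique, _root_.Fintype.card_eq_zero, _root_.add_zero, _root_.pow_one]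
  have hcp : (Matrix.diagonal (fun _ : Unit ⊕ Empty => x)).charpoly = X - C x := by
    rw [Matrix.charpoly_diagonal]; simp
  refine criterionW hB hg (ι := Unit ⊕ Empty) (Or.inr (by rw [hn]; rfl)) (P := 1)
    (Z₀ := Matrix.diagonal (fun _ : Unit ⊕ Empty => x0)) (h := 1) (t := e) hR
    (by rw [one_mul, mul_one]) Matrix.det_one (by rw [hdet0]; exact hx00) (fun h2 => ?_) ?_ ?_ ?_
  · exfalso
    rw [hn] at h2
    have h3 : Fintype.card (Unit ⊕ Empty) = 1 := rfl
    omega
  · rw [Matrix.diagonal_pow]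
    have h1 : (fun _ : Unit ⊕ Empty => x0) ^ (q ^ 2 - 1) = fun _ => 1 := by
      funext i
      rw [Pi.pow_apply, hx0, ← Units.val_pow_eq_pow_val, ← hηord, pow_orderOf_eq_one, Units.val_one]
    rw [h1]
    exact Matrix.diagonal_one
  · rw [hpow, hcp]
    have h1 : ((X - C x : F[X]).map σ).reverse = C (-σ x) * (X - C (σ x)⁻¹) := by
      rw [Polynomial.map_sub, Polynomial.map_X, Polynomial.map_C]
      ext i
      rw [Polynomial.coeff_reverse, Polynomial.natDegree_X_sub_C, Polynomial.coeff_C_mul, Polynomial.coeff_sub,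
        Polynomial.coeff_sub]
      rcases i with _ | _ | i
      · rw [Polynomial.revAt_le (by omega)]
        simp only [hσx, _root_.tsub_zero, _root_.Polynomial.coeff_X_one, _root_.Polynomial.coeff_C_succ, _root_.sub_zero, _root_.Polynomial.coeff_X_zero, _root_.Polynomial.coeff_C_zero, _root_.zero_sub, _root_.mul_neg, _root_.neg_mul, _root_.ne_eq, _root_.not_false_eq_true, _root_.mul_inv_cancel₀, _root_.neg_neg]
      · rw [Polynomial.revAt_le (by omega)]
        simp only [_root_.zero_add, _root_.tsub_self, _root_.Polynomial.coeff_X_zero, _root_.Polynomial.coeff_C_zero, _root_.zero_sub, _root_.Polynomial.coeff_X_one, _root_.Polynomial.coeff_C_succ, _root_.sub_zero, _root_.mul_one]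
      · rw [Polynomial.revAt_eq_self_of_lt (by omega)]
        simp only [Polynomial.coeff_X, Polynomial.coeff_C, _root_.Nat.right_eq_add, _root_.Nat.add_eq_zero_iff, _root_.one_ne_zero, _root_.and_false, ↓ _root_.reduceIte, _root_.Polynomial.coeff_C_succ, _root_.sub_self, _root_.MulZeroClass.mul_zero]
    rw [h1]
    have h2 : IsUnit (C (-σ x) : F[X]) := Polynomial.isUnit_C.2 (isUnit_iff_ne_zero.2 (neg_ne_zero.2 hσx))
    rw [isCoprime_mul_unit_left_right h2]
    apply Polynomial.isCoprime_X_sub_C_of_isUnit_sub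
    rw [isUnit_iff_ne_zero, sub_ne_zero]
    intro h3
    apply hx1
    calc x ^ (q + 1) = σ x * x := by rw [pow_succ, ← hB.sig]
      _ = σ x * (σ x)⁻¹ := by rw [← h3]
      _ = 1 := mul_inv_cancel₀ hσx
  · rw [hpow, hdet, hcp, Polynomial.eval_sub, Polynomial.eval_X, Polynomial.eval_C, hB.sig]
    intro h1
    apply hx2
    have h2 : x ^ q * x⁻¹ = x := sub_eq_zero.1 h1
    calc x ^ q = x ^ q * x⁻¹ * x := by rw [inv_mul_cancel_right₀ hxne]
      _ = x ^ 2 := by rw [h2, pow_two]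

end Cfsg.Agent.H43.W53
end

-- part: H950/War/RowB
section
/-!
# S2453: the row `PSU_n(q)`, `n ≥ 3`, `p ∣ k * l` (helper950, helper43)
-/

set_option autoImplicit false

namespace Cfsg.Agent.H950.War

open Cfsg Module Polynomial Cfsg.Agent.H951 Matrix Cfsg.Agent.H98.Ore Cfsg.Agent.H130.War

universe u

variable {F : Type u} [Field F] [Fintype F] {q : ℕ}

theorem ss_psu_three (hF : Fintype.card F = q ^ 2) {p e : ℕ} (hp : p.Prime) [CharP F p] (he : 1 ≤ e)
    (heq : e + 1 < q) : SS p e (PSU 3 F q) :=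
  ss_of_W (coprime_N hF hp (j := 2) (by norm_num)) fun _ hg hs =>
    Cfsg.Agent.H43.W53.W_three (hs_herm hF 3) he heq (Module.finrank_fin_fun F) hg hs

/-- the row -/
theorem kl_psu (hF : Fintype.card F = q ^ 2) {n p k l : ℕ} (hn : 3 ≤ n) (hp : p.Prime) [CharP F p]
    (hk : 2 ≤ k) (hl : 2 ≤ l) (hg : ¬ k.Coprime l) (hd : p ∣ k ∨ p ∣ l)
    (hbig : (max k l) ^ (8 * (max k l) ^ 2) ≤ Nat.card (PSU n F q)) : Cfsg.Agent.H134.War.KL (PSU n F q) k l := by
  rcases hn.eq_or_lt with rfl | hn4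
  · have hM : 2 ≤ max k l := hk.trans (le_max_left _ _)
    have he : 1 ≤ ee p k l := by
      unfold ee
      exact Nat.ordCompl_pos p (Nat.lcm_ne_zero (by omega) (by omega))
    apply SS.kl' (p := p)
    refine ss_psu_three hF hp he (Cfsg.Agent.H43.W53.numeric3 hM he (hbig.trans (card_PSU_le hF (by omega))) ?_)
    by_cases h5 : max k l ≤ 5
    · left; exact ee_eq_one hp hk hl hg h5 hd
    · right; exact ⟨by omega, ee_le (by omega) hg⟩
  · exact kl_psu_four hF hn4 hp hk hl hg hd hbig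

end Cfsg.Agent.H950.War
end

private theorem dce_28461addbf88 : _root_.True := by
  try have : _root_.True := by simp only [_root_.Cfsg.Agent.H950.War.ph.eq_1]
  exact _root_.True.intro
end
end
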